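import Groth.Agent.Sga3.H800.FacGlob
import Groth.Agent.Ega43.FPOfComp
import Mathlib.AlgebraicGeometry.Morphisms.FlatMono

/-!
# Subtori commuting with a maximal torus
-/

set_option autoImplicit false
universe u
open CategoryTheory MonoidalCategory CartesianMonoidalCategory MonObj GrpObj AlgebraicGeometry Limits

namespace Groth.Agent.Sga3.H800.FacMain

open Groth.Agent.Sga3B Groth.Agent.Sga3C.FlatPt Groth.Agent.Sga3.H800.FacOver Groth.Agent.Sga3.H800.FacGlob

/-- Flat-local factorisations through a monomorphism of finite presentation glue. -/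
theorem exists_factor_of_facOver {S : Scheme.{u}} {T R G : Over S} (i : T ⟶ G) (j : R ⟶ G) [Mono i]
    [LocallyOfFinitePresentation T.hom] [LocallyOfFiniteType G.hom]
    (h : ∀ s : S, ∃ (W : Scheme.{u}) (w : W ⟶ S) (y : W), Flat w ∧ w y = s ∧ FacOver w i j) :
    ∃ f : R ⟶ T, f ≫ i = j := by
  have hlfp : LocallyOfFinitePresentation i.left := by
    have : LocallyOfFinitePresentation (i.left ≫ G.hom) := by rw [Over.w i]; infer_instance
    exact Ega43.FPOfComp.locallyOfFinitePresentation_of_comp i.left G.hom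
  have hmono : Mono i.left := inferInstance
  let c : pullback i.left j.left ⟶ R.left := pullback.snd i.left j.left
  -- local sections of `c`
  have key : ∀ y : R.left, ∃ (Z : Scheme.{u}) (q : Z ⟶ pullback i.left j.left) (z : Z), Flat (q ≫ c) ∧ (q ≫ c) z = y := by
    intro y
    obtain ⟨W, w, x, hw, hx, hf⟩ := h (R.hom y)
    obtain ⟨z, hz1, hz2⟩ := Scheme.Pullback.exists_preimage_pullback (f := R.hom) (g := w) y x hx.symm
    let X : Over S := Over.mk (pullback.fst R.hom w ≫ R.hom)
    let r : X ⟶ R := Over.homMk (pullback.fst R.hom w) rfl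
    let t : X ⟶ Over.mk w := Over.homMk (pullback.snd R.hom w) pullback.condition.symm
    obtain ⟨a, ha⟩ := hf X t r
    have ha' : a.left ≫ i.left = pullback.fst R.hom w ≫ j.left := congrArg (fun f => f.left) ha
    refine ⟨pullback R.hom w, pullback.lift a.left (pullback.fst R.hom w) ha', z, ?_, ?_⟩
    · rw [show c = pullback.snd i.left j.left from rfl, pullback.lift_snd]
      infer_instance
    · rw [show c = pullback.snd i.left j.left from rfl, pullback.lift_snd]
      exact hz1
  have hcs : Surjective c := by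
    refine ⟨fun y => ?_⟩
    obtain ⟨Z, q, z, -, hz⟩ := key y
    exact ⟨q z, by rw [← hz]; rfl⟩
  have hcm : Mono c := inferInstance
  have hcinj : Function.Injective c := Scheme.Hom.injective c
  have hcf : Flat c := by
    refine flat_of_forall_isFlatAt c fun p => ?_
    obtain ⟨Z, q, z, hq, hz⟩ := key (c p)
    have h1 : q z = p := hcinj (by rw [← hz]; rfl)
    rw [← h1]
    have h2 : Flat q := flat_of_comp_mono q c
    exact IsFlatAt.of_comp (isFlatAt_of_flat q z) (isFlatAt_of_flat (q ≫ c) z)
  have hclfp : LocallyOfFinitePresentation c := inferInstance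
  have hco : IsOpenImmersion c := IsOpenImmersion.of_flat_of_mono c
  have hci : IsIso c := (isIso_iff_isOpenImmersion_and_surjective c).2 ⟨hco, hcs⟩
  have hc : inv c ≫ pullback.fst i.left j.left ≫ i.left = j.left := by
    rw [pullback.condition, ← Category.assoc, IsIso.inv_hom_id, Category.id_comp]
  refine ⟨Over.homMk (inv c ≫ pullback.fst i.left j.left) ?_, ?_⟩
  · have h1 := congrArg (fun f => f ≫ G.hom) hc
    simp only [Category.assoc, Over.w] at h1 ⊢
    exact h1
  · ext1
    simp only [Over.comp_left, Over.homMk_left, Category.assoc]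
    exact hc

/-- Flat local neighbourhoods over which `j` factors through `i`. -/
theorem exists_flat_facOver {S : Scheme.{u}} {T R G : Over S} [GrpObj T] [GrpObj R] [GrpObj G]
    [LocallyOfFiniteType G.hom] (i : T ⟶ G) (j : R ⟶ G) (hT : Red.IsMaximalTorus i) [IsMonHom j] (hR : Red.IsTorus R)
    (hcomm : ∀ (X : Over S) (t : X ⟶ T) (r : X ⟶ R), (t ≫ i) * (r ≫ j) = (r ≫ j) * (t ≫ i)) (s : S) :
    ∃ (W : Scheme.{u}) (w : W ⟶ S) (y : W), Flat w ∧ w y = s ∧ FacOver w i j := by
  obtain ⟨A, _, _, w, m, n, hw, hs, hm, hn⟩ := exists_local_split hT.2.2.1 hR s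
  refine ⟨_, w, IsLocalRing.closedPoint A, hw, hs, ?_⟩
  have hg : (Red.geomPt s) (IsLocalRing.closedPoint (AlgebraicClosure (S.residueField s))) = s := by
    rw [Scheme.Hom.comp_apply]
    exact Scheme.fromSpecResidueField_apply _ _
  obtain ⟨z, hz1, hz2⟩ := Scheme.Pullback.exists_preimage_pullback (f := w) (g := Red.geomPt s)
    (IsLocalRing.closedPoint A) (IsLocalRing.closedPoint (AlgebraicClosure (S.residueField s))) (hs.trans hg.symm)
  let Q := pullback w (Red.geomPt s)
  let ω : Spec (CommRingCat.of (Q.residueField z)) ⟶ Spec (CommRingCat.of A) :=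
    Q.fromSpecResidueField z ≫ pullback.fst w (Red.geomPt s)
  have hi1 : IsMonHom i := hT.1
  have hi2 : Mono i := hT.2.1
  refine facOver_of_split w i j hcomm hm hn ω ?_ ?_
  · refine ⟨IsLocalRing.closedPoint (Q.residueField z), ?_⟩
    rw [Scheme.Hom.comp_apply, ← hz1]
    exact congrArg _ (Scheme.fromSpecResidueField_apply _ _)
  · have h1 : ω ≫ w = (Q.fromSpecResidueField z ≫ pullback.snd w (Red.geomPt s)) ≫ Red.geomPt s := by
      simp only [ω, Category.assoc]
      rw [pullback.condition]
    rw [h1]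
    exact (facOver_geomPt i j hT hR hcomm s).comp _

/-- **Subtori commuting with a maximal torus.** `G` any group scheme locally of finite type, `i : T ⟶ G` a maximal
torus, `j : R ⟶ G` a homomorphism from a torus commuting with `T`: then `j` factors through `i`. -/
theorem exists_factor {S : Scheme.{u}} {T R G : Over S} [GrpObj T] [GrpObj R] [GrpObj G]
    [LocallyOfFiniteType G.hom] (i : T ⟶ G) (j : R ⟶ G) (hT : Red.IsMaximalTorus i) [IsMonHom j] (hR : Red.IsTorus R)
    (hcomm : ∀ (X : Over S) (t : X ⟶ T) (r : X ⟶ R), (t ≫ i) * (r ≫ j) = (r ≫ j) * (t ≫ i)) :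
    ∃ f : R ⟶ T, f ≫ i = j := by
  have hi2 : Mono i := hT.2.1
  have hsm : Smooth T.hom := TorusAlgClosed.smooth_of_isTorus hT.2.2.1
  exact exists_factor_of_facOver i j (exists_flat_facOver i j hT hR hcomm)

end Groth.Agent.Sga3.H800.FacMain
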