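import Groth.Agent.Sga3.H800.FacLoc
import Groth.Agent.Sga3C.FlatPt

/-!
# Factorisation over the base: globalisation
-/

set_option autoImplicit false
universe u
open CategoryTheory MonoidalCategory CartesianMonoidalCategory MonObj GrpObj AlgebraicGeometry Limits

namespace Groth.Agent.Sga3.H800.FacGlob

open Groth.Agent.Sga3B Groth.Agent.Sga3.H800.FacOver

lemma mono_pullback_map {S S' : Scheme.{u}} (w : S' ⟶ S) {T G : Over S} (i : T ⟶ G) [Mono i] :
    Mono ((Over.pullback w).map i) := by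
  have : (Over.pullback w).IsRightAdjoint := (Over.mapPullbackAdj w).isRightAdjoint
  infer_instance

theorem facOver_of_split {S : Scheme.{u}} {A : Type u} [CommRing A] [IsLocalRing A] (w : Spec (CommRingCat.of A) ⟶ S)
    {T R G : Over S} [GrpObj T] [GrpObj R] [GrpObj G] [LocallyOfFiniteType G.hom]
    (i : T ⟶ G) (j : R ⟶ G) [IsMonHom i] [Mono i] [IsMonHom j]
    (hcomm : ∀ (X : Over S) (t : X ⟶ T) (r : X ⟶ R), (t ≫ i) * (r ≫ j) = (r ≫ j) * (t ≫ i))
    {m n : ℕ} (hT : Red.IsSplitTorusWith (Fin m → ℤ) (Red.bc w T))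
    (hR : Red.IsSplitTorusWith (Fin n → ℤ) (Red.bc w R))
    {Ω : Type u} [Field Ω] (ω : Spec (CommRingCat.of Ω) ⟶ Spec (CommRingCat.of A))
    (hω : IsLocalRing.closedPoint A ∈ Set.range ω) (h : FacOver (ω ≫ w) i j) : FacOver w i j := by
  obtain ⟨eT⟩ := hT
  obtain ⟨eR⟩ := hR
  have hT1 : eT.hom.hom.hom ≫ eT.inv.hom.hom = 𝟙 _ := congrArg (fun f => f.hom.hom) eT.hom_inv_id
  have hR1 : eR.hom.hom.hom ≫ eR.inv.hom.hom = 𝟙 _ := congrArg (fun f => f.hom.hom) eR.hom_inv_id
  have hT2 : eT.inv.hom.hom ≫ eT.hom.hom.hom = 𝟙 _ := congrArg (fun f => f.hom.hom) eT.inv_hom_id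
  have mT : IsMonHom eT.inv.hom.hom := eT.inv.hom.isMonHom_hom
  have mR : IsMonHom eR.inv.hom.hom := eR.inv.hom.isMonHom_hom
  have isoT : IsIso eT.inv.hom.hom := ⟨eT.hom.hom.hom, hT2, hT1⟩
  have mi : Mono ((Over.pullback w).map i) := mono_pullback_map w i
  let i' : Red.DS (Spec (CommRingCat.of A)) (Fin m → ℤ) ⟶ Red.bc w G := eT.inv.hom.hom ≫ (Over.pullback w).map i
  let j' : Red.DS (Spec (CommRingCat.of A)) (Fin n → ℤ) ⟶ Red.bc w G := eR.inv.hom.hom ≫ (Over.pullback w).map j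
  have hi' : IsMonHom i' := inferInstance
  have hj' : IsMonHom j' := inferInstance
  have hi'' : Mono i' := mono_comp _ _
  have hlft : LocallyOfFiniteType (Red.bc w G).hom := by
    change LocallyOfFiniteType (pullback.snd _ _)
    infer_instance
  have h0 : FacOver ω i' j' := by
    intro X t r
    let t' : (Over.map w).obj X ⟶ Over.mk (ω ≫ w) := Over.homMk t.left (by
      have := Over.w t
      simp only [Over.mk_hom, Over.map_obj_hom] at this ⊢
      rw [← Category.assoc, this])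
    obtain ⟨y, hy⟩ := h ((Over.map w).obj X) t' ((BcPts.bcEquiv w X R).symm (r ≫ eR.inv.hom.hom))
    refine ⟨BcPts.bcEquiv w X T y ≫ eT.hom.hom.hom, ?_⟩
    simp only [i', j']
    rw [Category.assoc, reassoc_of% hT1, ← BcPts.bcEquiv_comp, hy, BcPts.bcEquiv_comp, Equiv.apply_symm_apply,
      Category.assoc]
  obtain ⟨f, hf⟩ := FacLoc.exists_factor_local i' j' (fun X t r => by
    have := comm_bc w hcomm X (t ≫ eT.inv.hom.hom) (r ≫ eR.inv.hom.hom)
    simpa only [i', j', Category.assoc] using this) ω hω h0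
  refine facOver_of_map (eR.hom.hom.hom ≫ f ≫ eT.inv.hom.hom) ?_
  rw [Category.assoc, Category.assoc]
  change eR.hom.hom.hom ≫ f ≫ i' = _
  rw [hf]
  simp only [j']
  rw [reassoc_of% hR1]

/-- Every point of the base of a torus has a flat neighbourhood over which the torus is split. -/
lemma exists_flat_split {S : Scheme.{u}} {T : Over S} [GrpObj T] (hT : Red.IsTorus T) (s : S) :
    ∃ (W : Scheme.{u}) (w : W ⟶ S) (y : W) (m : ℕ), Flat w ∧ w y = s ∧
      Red.IsSplitTorusWith (Fin m → ℤ) (Red.bc w T) := by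
  obtain ⟨S', f, hf, hs, -, h⟩ := hT
  obtain ⟨s', rfl⟩ := f.surjective s
  obtain ⟨U, hU, r, hr⟩ := h s'
  exact ⟨U, U.ι ≫ f, ⟨s', hU⟩, r, inferInstance, rfl, hr⟩

/-- `T`, `R` tori: every point of the base has a flat local neighbourhood over which both are split. -/
lemma exists_local_split {S : Scheme.{u}} {T R : Over S} [GrpObj T] [GrpObj R] (hT : Red.IsTorus T)
    (hR : Red.IsTorus R) (s : S) :
    ∃ (A : Type u) (_ : CommRing A) (_ : IsLocalRing A) (w : Spec (CommRingCat.of A) ⟶ S) (m n : ℕ), Flat w ∧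
      w (IsLocalRing.closedPoint A) = s ∧ Red.IsSplitTorusWith (Fin m → ℤ) (Red.bc w T) ∧
      Red.IsSplitTorusWith (Fin n → ℤ) (Red.bc w R) := by
  obtain ⟨W, w, y, m, hw, hy, hm⟩ := exists_flat_split hT s
  obtain ⟨W', w', y', n, hw', hy', hn⟩ := exists_flat_split (TorusBc.isTorus_bc w hR) y
  let v : Spec (W'.presheaf.stalk y') ⟶ W' := W'.fromSpecStalk y'
  have hv : v (IsLocalRing.closedPoint (W'.presheaf.stalk y')) = y' := Scheme.fromSpecStalk_closedPoint
  refine ⟨W'.presheaf.stalk y', inferInstance, inferInstance, (v ≫ w') ≫ w, m, n, inferInstance, ?_, ?_, ?_⟩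
  · rw [Scheme.Hom.comp_apply, Scheme.Hom.comp_apply, ← hy, ← hy']
    exact congrArg (fun z => w (w' z)) hv
  · have h1 := TorusAlgClosed.isSplitTorusWith_bc (v ≫ w') hm
    exact TorusBc.isSplitTorusWith_of_iso (BcIso.bcCompIso (v ≫ w') w T).symm h1
  · have h1 := TorusAlgClosed.isSplitTorusWith_bc v hn
    have h2 := TorusBc.isSplitTorusWith_of_iso (BcIso.bcCompIso v w' (Red.bc w R)).symm h1
    exact TorusBc.isSplitTorusWith_of_iso (BcIso.bcCompIso (v ≫ w') w R).symm h2

end Groth.Agent.Sga3.H800.FacGlob
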