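import Groth.Agent.Sga3.H800.FacOver

/-!
# Factorisation over a local ring
-/

set_option autoImplicit false
universe u
open CategoryTheory MonoidalCategory CartesianMonoidalCategory MonObj GrpObj AlgebraicGeometry Limits

namespace Groth.Agent.Sga3.H800.FacLoc

open Groth.Agent.Sga3B.DSPts Groth.Agent.Sga3B.InfConj Groth.Agent.Sga3B.InfConjFam Groth.Agent.Sga3B.DSRigid
  Groth.Agent.Sga3B Groth.Agent.Sga3.H800.LocRig Groth.Agent.Sga3.H800.LocRigid Groth.Agent.Sga3.H800.FacOver

lemma tr_injective {S S' : Scheme.{u}} (x : S' ⟶ S) {M : Type} [AddCommGroup M] {X : Over S'}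
    {a b : X ⟶ Red.DS S' M} (h : tr x a = tr x b) : a = b := by
  apply (dsEquiv _ M).symm.injective
  change dsChar a = dsChar b
  rw [← dsChar_tr x a, ← dsChar_tr x b, h]

/-- Over the spectrum of a local ring `C` (for example a field) mapping to `S`, a factorisation of a homomorphism
between split groups is given by a map of character groups. -/
theorem exists_DSmap {S : Scheme.{u}} {C : Type u} [CommRing C] [IsLocalRing C] (x : Spec (CommRingCat.of C) ⟶ S)
    {M N : Type} [AddCommGroup M] [AddCommGroup N] {G : Over S} [GrpObj G]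
    (i : Red.DS S M ⟶ G) (j : Red.DS S N ⟶ G) [IsMonHom i] [IsMonHom j] [Mono i] (h : FacOver x i j) :
    ∃ α : M →+ N, ∀ (T : Over S) (_ : T ⟶ Over.mk x) (q : T ⟶ Red.DS S N),
      (q ≫ Red.DSmap S α) ≫ i = q ≫ j := by
  obtain ⟨y, hy⟩ := h ((Over.map x).obj (Red.DS (Spec (CommRingCat.of C)) N)) (st x _) (tr x (𝟙 _))
  let f : Red.DS (Spec (CommRingCat.of C)) N ⟶ Red.DS (Spec (CommRingCat.of C)) M := untr x y
  have hf : ∀ {X : Over (Spec (CommRingCat.of C))} (q : X ⟶ Red.DS (Spec (CommRingCat.of C)) N),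
      tr x (q ≫ f) ≫ i = tr x q ≫ j := by
    intro X q
    have h1 : q ≫ f = untr x ((Over.map x).map q ≫ y) := (untr_comp x q y).symm
    rw [h1, tr_untr, Category.assoc, hy, ← Category.assoc]
    congr 1
    rw [← tr_comp, Category.comp_id]
  have hm : IsMonHom f := by
    refine isMonHom_of_mul _ fun X a b => ?_
    apply tr_injective x
    rw [← cancel_mono i, hf, tr_mul, tr_mul]
    have e1 := MonObj.mul_comp (tr x a) (tr x b) j
    have e2 := MonObj.mul_comp (tr x (a ≫ f)) (tr x (b ≫ f)) i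
    rw [hf, hf] at e2
    exact e1.trans e2.symm
  obtain ⟨α, hα⟩ := exists_eq_DSmap f
  refine ⟨α, fun T t q => ?_⟩
  obtain ⟨T', q', e, rfl⟩ := exists_tr x t q
  have h2 := hf q'
  rw [hα, tr_DSmap] at h2
  rw [Category.assoc, Category.assoc, Category.assoc, ← Category.assoc (tr x q'), h2]

/-- **Factorisation over a local ring.** -/
theorem exists_factor_local {A : Type u} [CommRing A] [IsLocalRing A] {M N : Type} [AddCommGroup M] [AddCommGroup N]
    [AddGroup.FG N] {G : Over (Spec (CommRingCat.of A))} [GrpObj G] [LocallyOfFiniteType G.hom]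
    (i : Red.DS (Spec (CommRingCat.of A)) M ⟶ G) (j : Red.DS (Spec (CommRingCat.of A)) N ⟶ G) [IsMonHom i]
    [IsMonHom j] [Mono i]
    (hcomm : ∀ (X : Over (Spec (CommRingCat.of A))) (t : X ⟶ Red.DS (Spec (CommRingCat.of A)) M)
      (r : X ⟶ Red.DS (Spec (CommRingCat.of A)) N), (t ≫ i) * (r ≫ j) = (r ≫ j) * (t ≫ i))
    {Ω : Type u} [Field Ω] (ω : Spec (CommRingCat.of Ω) ⟶ Spec (CommRingCat.of A))
    (hω : IsLocalRing.closedPoint A ∈ Set.range ω) (h : FacOver ω i j) :
    ∃ f : Red.DS (Spec (CommRingCat.of A)) N ⟶ Red.DS (Spec (CommRingCat.of A)) M, f ≫ i = j := by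
  obtain ⟨α, hα⟩ := exists_DSmap ω i j h
  refine ⟨Red.DSmap _ α, ?_⟩
  have hm : IsMonHom (Red.DSmap (Spec (CommRingCat.of A)) α) := isMonHom_DSmap _
  -- the map on rings
  obtain ⟨φ, hφ⟩ : ∃ φ : A →+* Ω, Spec.map (CommRingCat.ofHom φ) = ω := ⟨(Spec.preimage ω).hom, Spec.map_preimage _⟩
  have hk : ∀ a ∈ IsLocalRing.maximalIdeal A, φ a = 0 := by
    intro a ha
    obtain ⟨y, hy⟩ := hω
    have h1 : a ∈ (ω y).asIdeal := by rw [hy]; exact ha
    rw [← hφ] at h1
    have h2 : φ a ∈ y.asIdeal := h1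
    have h3 : y.asIdeal = ⊥ := (Ideal.eq_bot_or_top _).resolve_right y.isPrime.ne_top
    rw [h3] at h2
    exact h2
  let φ' : (A ⧸ IsLocalRing.maximalIdeal A) →+* Ω := Ideal.Quotient.lift _ φ hk
  let p : Spec (CommRingCat.of Ω) ⟶ Spec (CommRingCat.of (A ⧸ IsLocalRing.maximalIdeal A)) :=
    Spec.map (CommRingCat.ofHom φ')
  have hp : p ≫ qMap (IsLocalRing.maximalIdeal A) = ω := by
    rw [← hφ, ← Spec.map_comp, ← CommRingCat.ofHom_comp]
    congr 2
  let _ : Field (A ⧸ IsLocalRing.maximalIdeal A) := Ideal.Quotient.field _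
  have hpf : Flat p := by
    change Flat (Spec.map _)
    rw [Flat.SpecMap_iff]
    let _ : Algebra (A ⧸ IsLocalRing.maximalIdeal A) Ω := φ'.toAlgebra
    exact (inferInstance : Module.Flat (A ⧸ IsLocalRing.maximalIdeal A) Ω)
  have hps : Surjective p := by
    refine ⟨fun y => ⟨IsLocalRing.closedPoint Ω, ?_⟩⟩
    exact Subsingleton.elim _ _
  let P : Over.mk ω ⟶ Over.mk (qMap (IsLocalRing.maximalIdeal A)) := Over.homMk p hp
  have h1 : Flat P.left := hpf
  have h2 : Surjective P.left := hps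
  have h3 : QuasiCompact P.left := inferInstanceAs (QuasiCompact p)
  refine eq_of_comm (Red.DSmap _ α ≫ i) j ?_ ?_
  · intro X x y
    have := hcomm X (x ≫ Red.DSmap _ α) y
    rwa [Category.assoc] at this
  · intro T t q
    obtain ⟨T', q', x, he, hx⟩ := FieldImg.exists_cover P t
    rw [← cancel_epi q']
    have := hα T' x (q' ≫ q)
    simpa only [Category.assoc] using this

end Groth.Agent.Sga3.H800.FacLoc
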