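import Groth.Agent.Sga3.H800.LocRig
import Groth.Agent.Sga3A.FibRes
import Groth.Agent.Localalg.GrpSchComp2

/-!
# Rigidity of homomorphisms from diagonalizable groups over a local base

`A` a local ring, `G` a group scheme locally of finite type over `Spec A` (neither affine nor separated), `M` a
finitely generated abelian group.  A homomorphism `d : D(M) ⟶ G` which is trivial over the closed point is
trivial.
-/

set_option autoImplicit false
universe u
open CategoryTheory MonoidalCategory CartesianMonoidalCategory MonObj GrpObj AlgebraicGeometry Limits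

namespace Groth.Agent.Sga3.H800.LocRigid

open Groth.Agent.Sga3B.DSPts Groth.Agent.Sga3B.InfConj Groth.Agent.Sga3B.InfConjFam Groth.Agent.Sga3B.DSRigid
  Groth.Agent.Sga3B Groth.Agent.Sga3A LocRig

section tors

variable (M : Type) [AddCommGroup M] (l : ℕ)

/-- `M / l M` -/
abbrev QA : Type := Additive (FibRes.Q (Multiplicative M) l)

/-- `M → M / l M` -/
def qa : M →+ QA M l := MonoidHom.toAdditiveRight (FibRes.qm (Multiplicative M) l)

lemma finite_QA [AddGroup.FG M] (hl : 0 < l) : Finite (QA M l) := by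
  have : Finite (FibRes.Q (Multiplicative M) l) := by
    apply CommGroup.finite_of_fg_isMulTorsion
    intro x
    rw [isOfFinOrder_iff_pow_eq_one]
    refine ⟨l, hl, ?_⟩
    obtain ⟨y, rfl⟩ := QuotientGroup.mk_surjective x
    rw [← QuotientGroup.mk_pow]
    exact (QuotientGroup.eq_one_iff _).mpr ⟨y, rfl⟩
  infer_instance

variable (C : Type u) [CommRing C]

/-- `C[M] → C[M / l M]` -/
noncomputable def qAlg : MonoidAlgebra C (Multiplicative M) →ₐ[C] MonoidAlgebra C (Multiplicative (QA M l)) :=
  MonoidAlgebra.mapDomainAlgHom C C (AddMonoidHom.toMultiplicative (qa M l))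

lemma qAlg_single (m : Multiplicative M) :
    qAlg M l C (MonoidAlgebra.single m 1) =
      MonoidAlgebra.single (AddMonoidHom.toMultiplicative (qa M l) m) 1 := by
  simp [qAlg]

lemma eq_zero_of_qAlg [AddGroup.FG M] (x : MonoidAlgebra C (Multiplicative M)) (h : ∀ l, 0 < l → qAlg M l C x = 0) :
    x = 0 := by
  refine FibRes.eq_zero_of_qma x fun l hl => ?_
  let ψ : Multiplicative (QA M l) →* FibRes.Q (Multiplicative M) l :=
    (MulEquiv.refl _ : FibRes.Q (Multiplicative M) l ≃* FibRes.Q (Multiplicative M) l).toMonoidHom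
  have h1 : (MonoidAlgebra.mapDomainAlgHom C C ψ).comp (qAlg M l C) =
      (FibRes.qma C (Multiplicative M) l : _ →ₐ[C] _) := by
    refine MonoidAlgebra.algHom_ext (fun m => ?_) (Subsingleton.elim _ _)
    rw [AlgHom.comp_apply]
    change MonoidAlgebra.mapDomainAlgHom C C ψ (qAlg M l C (MonoidAlgebra.single m 1)) =
      FibRes.qma C (Multiplicative M) l (MonoidAlgebra.single m 1)
    rw [qAlg_single, FibRes.qma_single]
    simp
    rfl
  have h2 := congr($h1 x)
  rw [AlgHom.comp_apply, h l hl, map_zero] at h2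
  exact h2.symm

/-- the torsion subgroup `D(M / l M) ⟶ D(M)` on universal points. -/
lemma univPt_DSmap_qa :
    univPt C (QA M l) ≫ Red.DSmap (Spec (CommRingCat.of C)) (qa M l) = ptMap (qAlg M l C) ≫ univPt C M := by
  rw [univPt, univPt, ptMap_charPt, charPt, dsEquiv_DSmap, charPt]
  congr 1
  refine MonoidHom.ext fun m => ?_
  change gPt C _ (MonoidAlgebra.single _ 1) = gPt C _ (qAlg M l C (MonoidAlgebra.single m 1))
  rw [qAlg_single]

end tors

section field

variable {k : Type u} [Field k] {M : Type} [AddCommGroup M]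

/-- Schematic density of the torsion subgroups. -/
lemma eq_one_of_tors [AddGroup.FG M] (G : Over (Spec (CommRingCat.of k))) [GrpObj G]
    (d : Red.DS (Spec (CommRingCat.of k)) M ⟶ G)
    (h : ∀ l, 0 < l → Red.DSmap (Spec (CommRingCat.of k)) (qa M l) ≫ d = 1) : d = 1 := by
  have hsep : IsSeparated G.hom := Localalg.GrpSchComp2.isSeparated_hom G
  let c := univPt k M ≫ d
  have hc : ∀ l, 0 < l → ptMap (qAlg M l k) ≫ c = ptMap (qAlg M l k) ≫ 1 := by
    intro l hl
    rw [← Category.assoc, ← univPt_DSmap_qa, Category.assoc, h l hl, MonObj.comp_one, MonObj.comp_one]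
  have haff : IsAffine (pt k (MonoidAlgebra k (Multiplicative M))).left := inferInstanceAs (IsAffine (Spec _))
  have h1 : (equalizer.ι c 1).left.ker = ⊥ := by
    apply Scheme.IdealSheafData.ext_of_isAffine
    simp only [Scheme.IdealSheafData.ideal_bot, Pi.bot_apply]
    rw [eq_bot_iff]
    intro x hx
    let e : MonoidAlgebra k (Multiplicative M) ≃+* Γ(Spec (CommRingCat.of (MonoidAlgebra k (Multiplicative M))), ⊤) :=
      (Scheme.ΓSpecIso (CommRingCat.of (MonoidAlgebra k (Multiplicative M)))).symm.commRingCatIsoToRingEquiv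
    obtain ⟨y, rfl⟩ := e.surjective x
    have h2 : y = 0 := by
      apply eq_zero_of_qAlg M k y
      intro l hl
      have h3 : (equalizer.ι c 1).left.ker ≤ (ptMap (qAlg M l k)).left.ker := by
        have h4 : (ptMap (qAlg M l k)).left = (equalizer.lift (ptMap (qAlg M l k)) (hc l hl)).left ≫
            (equalizer.ι c 1).left := by
          rw [← Over.comp_left, equalizer.lift_ι]
        rw [h4]
        exact Scheme.Hom.le_ker_comp _ _
      have h5 : e y ∈ (ptMap (qAlg M l k)).left.ker.ideal ⟨⊤, isAffineOpen_top _⟩ := h3 _ hx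
      have hqc : QuasiCompact (ptMap (qAlg M l k)).left :=
        inferInstanceAs (QuasiCompact (Spec.map (CommRingCat.ofHom (qAlg M l k).toRingHom)))
      rw [Scheme.Hom.ker_apply] at h5
      have h6 : (ptMap (qAlg M l k)).left.appTop.hom (gPt k _ y) = 0 := h5
      rw [gPt_naturality] at h6
      exact gPt_injective (R := k) _ (h6.trans (map_zero _).symm)
    rw [h2, map_zero]
    exact Submodule.zero_mem _
  have h7 : IsIso (equalizer.ι c 1).left := IsClosedImmersion.isIso_iff_ker_eq_bot.mpr h1
  have h8 : c = 1 := by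
    ext1
    rw [← cancel_epi (equalizer.ι c 1).left, ← Over.comp_left, ← Over.comp_left, equalizer.condition]
  obtain ⟨r, hr⟩ := exists_eq_comp_charPt (𝟙 (Red.DS (Spec (.of k)) M))
  rw [← Category.id_comp d, hr, Category.assoc]
  change r ≫ c = 1
  rw [h8, MonObj.comp_one]

end field

lemma isMonHom_DSmap {S : Scheme.{u}} {M N : Type} [AddCommGroup M] [AddCommGroup N] (φ : M →+ N) :
    IsMonHom (Red.DSmap S φ) := by
  refine isMonHom_of_mul _ fun T d d' => ?_
  apply (dsEquiv T M).symm.injective
  change dsChar _ = dsChar _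
  rw [dsChar_DSmap, dsChar_mul, dsChar_mul, dsChar_DSmap, dsChar_DSmap]
  rfl

section local_ring

variable {A : Type u} [CommRing A] {G : Over (Spec (CommRingCat.of A))} [GrpObj G] {M : Type} [AddCommGroup M]
  (d : Red.DS (Spec (CommRingCat.of A)) M ⟶ G)

omit [GrpObj G] in
lemma range_left_subset {N : Type} [AddCommGroup N] (d : Red.DS (Spec (CommRingCat.of A)) N ⟶ G) :
    Set.range d.left ⊆ Set.range (univPt A N ≫ d).left := by
  obtain ⟨r, hr⟩ := exists_eq_comp_charPt (𝟙 (Red.DS (Spec (.of A)) N))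
  rintro _ ⟨x, rfl⟩
  refine ⟨r.left x, ?_⟩
  have h1 : r ≫ (univPt A N ≫ d) = d := by rw [← Category.assoc, ← hr, Category.id_comp]
  have h2 : (r ≫ (univPt A N ≫ d)).left x = (univPt A N ≫ d).left (r.left x) := by
    rw [Over.comp_left, Scheme.Hom.comp_apply]
  rw [← h2, h1]

/-- If `d` is trivial over a field-valued point of the base then the points of `D(N)` above are mapped into
the unit section. -/
lemma mem_range_of_trivOver {N : Type} [AddCommGroup N] (d : Red.DS (Spec (CommRingCat.of A)) N ⟶ G)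
    (P : Ideal (MonoidAlgebra A (Multiplicative N))) [P.IsPrime]
    {S' : Scheme.{u}} (x : S' ⟶ Spec (CommRingCat.of A)) (hx : TrivOver x d)
    (t : pt A (MonoidAlgebra A (Multiplicative N) ⧸ P) ⟶ Over.mk x) :
    (univPt A N ≫ d).left (⟨P, inferInstance⟩ : PrimeSpectrum (MonoidAlgebra A (Multiplicative N))) ∈
      Set.range η[G].left := by
  have h1 := hx _ t (ptMap (Ideal.Quotient.mkₐ A P) ≫ univPt A N)
  let z : Spec (CommRingCat.of (MonoidAlgebra A (Multiplicative N) ⧸ P)) :=
    (⟨⊥, Ideal.isPrime_bot⟩ : PrimeSpectrum (MonoidAlgebra A (Multiplicative N) ⧸ P))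
  have h2 : (ptMap (Ideal.Quotient.mkₐ A P)).left z =
      (⟨P, inferInstance⟩ : PrimeSpectrum (MonoidAlgebra A (Multiplicative N))) := by
    apply PrimeSpectrum.ext
    change Ideal.comap (Ideal.Quotient.mk P) ⊥ = P
    rw [← RingHom.ker_eq_comap_bot, Ideal.mk_ker]
  rw [← h2, ← Scheme.Hom.comp_apply, ← Over.comp_left, ← Category.assoc, h1]
  exact InfTriv.range_one (X := pt A (MonoidAlgebra A (Multiplicative N) ⧸ P)) G ⟨z, rfl⟩

variable [IsLocalRing A]

/-- The torsion subgroups are mapped into every neighbourhood of the unit section. -/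
lemma range_of_finite {N : Type} [AddCommGroup N] [Finite N] (d : Red.DS (Spec (CommRingCat.of A)) N ⟶ G)
    (h0 : TrivOver (qMap (IsLocalRing.maximalIdeal A)) d) (V : G.left.Opens)
    (hV : Set.range η[G].left ⊆ (V : Set G.left)) : Set.range d.left ⊆ (V : Set G.left) := by
  refine (range_left_subset d).trans ?_
  let f := (univPt A N ≫ d).left
  let Z : Set (PrimeSpectrum (MonoidAlgebra A (Multiplicative N))) := {z | f z ∉ V}
  have hZ : IsClosed Z := by
    have h1 := (f ⁻¹ᵁ V).isOpen
    exact h1.isClosed_compl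
  rintro _ ⟨z, rfl⟩
  by_contra hz
  -- the image of `Z` in `Spec A` is closed
  have hint : (algebraMap A (MonoidAlgebra A (Multiplicative N))).IsIntegral := by
    have : Module.Finite A (MonoidAlgebra A (Multiplicative N)) := inferInstance
    exact algebraMap_isIntegral_iff.mpr inferInstance
  have hcl : IsClosed (PrimeSpectrum.comap (algebraMap A (MonoidAlgebra A (Multiplicative N))) '' Z) :=
    PrimeSpectrum.isClosedMap_comap_of_isIntegral _ hint _ hZ
  have hmem : IsLocalRing.closedPoint A ∈
      PrimeSpectrum.comap (algebraMap A (MonoidAlgebra A (Multiplicative N))) '' Z :=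
    (IsLocalRing.specializes_closedPoint _).mem_closed hcl ⟨z, hz, rfl⟩
  obtain ⟨y, hy, hyc⟩ := hmem
  apply hy
  have h1 := mem_range_of_trivOver d y.asIdeal _ h0 (Over.homMk (Spec.map (CommRingCat.ofHom
    (Ideal.Quotient.lift (IsLocalRing.maximalIdeal A) (algebraMap A (MonoidAlgebra A (Multiplicative N) ⧸ y.asIdeal))
      (by
        intro a ha
        have h2 := congrArg PrimeSpectrum.asIdeal hyc
        have h3 : a ∈ Ideal.comap (algebraMap A (MonoidAlgebra A (Multiplicative N))) y.asIdeal := by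
          change a ∈ (PrimeSpectrum.comap _ y).asIdeal
          rw [h2]
          exact ha
        rw [IsScalarTower.algebraMap_apply A (MonoidAlgebra A (Multiplicative N))]
        exact Ideal.Quotient.eq_zero_iff_mem.mpr h3))) ) (by
          simp only [Over.mk_hom, ← Spec.map_comp, ← CommRingCat.ofHom_comp]
          rfl))
  exact hV h1

/-- **Rigidity over a local base.** A homomorphism from a diagonalizable group of finite type to a group scheme
locally of finite type which is trivial over the closed point is trivial. -/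
theorem eq_one [AddGroup.FG M] [LocallyOfFiniteType G.hom] [IsMonHom d]
    (h0 : TrivOver (qMap (IsLocalRing.maximalIdeal A)) d) : d = 1 := by
  obtain ⟨D, j, hj, hj'⟩ := LocalLift.hasAffineUnitNhd_of_isLocalRing G
  -- the torsion subgroups
  have htors : ∀ l, 0 < l → Red.DSmap (Spec (CommRingCat.of A)) (qa M l) ≫ d = 1 := by
    intro l hl
    have hfin := finite_QA M l hl
    have hmon : IsMonHom (Red.DSmap (Spec (CommRingCat.of A)) (qa M l)) := isMonHom_DSmap _
    have h1 : TrivOver (qMap (IsLocalRing.maximalIdeal A)) (Red.DSmap (Spec (CommRingCat.of A)) (qa M l) ≫ d) := by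
      intro T t q
      rw [← Category.assoc, h0 T t]
    exact eq_one_of_range G D j hj' _ (range_of_finite _ h1 j.opensRange hj') h1
  -- the fibres
  have hfib : ∀ (k : Type u) [Field k] (x : Spec (CommRingCat.of k) ⟶ Spec (CommRingCat.of A)), TrivOver x d := by
    intro k _ x
    rw [← overHom_eq_one_iff]
    refine eq_one_of_tors (Red.bc x G) _ fun l hl => ?_
    rw [← Category.id_comp (Red.DSmap _ _ ≫ _), ← Category.assoc, comp_overHom, tr_DSmap, Category.assoc,
      htors l hl, MonObj.comp_one, map_one]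
  refine eq_one_of_range G D j hj' d ?_ h0
  rintro _ ⟨y, rfl⟩
  apply hj'
  let X := (Red.DS (Spec (CommRingCat.of A)) M).left
  let T : Over (Spec (CommRingCat.of A)) :=
    Over.mk (X.fromSpecResidueField y ≫ (Red.DS (Spec (CommRingCat.of A)) M).hom)
  let q : T ⟶ Red.DS (Spec (CommRingCat.of A)) M := Over.homMk (X.fromSpecResidueField y)
  have h1 := hfib (X.residueField y) T.hom T (Over.homMk (𝟙 _) (Category.id_comp _)) q
  obtain ⟨z, hz⟩ : y ∈ Set.range (X.fromSpecResidueField y) := by
    rw [Scheme.range_fromSpecResidueField]; rfl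
  have h2 : d.left y = (q ≫ d).left z := by
    rw [Over.comp_left, Scheme.Hom.comp_apply, ← hz]
    rfl
  rw [h2, h1]
  exact InfTriv.range_one (X := T) G ⟨z, rfl⟩

/-- Two commuting homomorphisms from a diagonalizable group to any group differ by a homomorphism. -/
lemma isMonHom_mul_inv {S : Scheme.{u}} {G : Over S} [GrpObj G] {M : Type} [AddCommGroup M]
    (d₁ d₂ : Red.DS S M ⟶ G) [IsMonHom d₁] [IsMonHom d₂]
    (hc : ∀ (X : Over S) (x y : X ⟶ Red.DS S M), (x ≫ d₁) * (y ≫ d₂) = (y ≫ d₂) * (x ≫ d₁)) :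
    IsMonHom (d₁ * d₂⁻¹) := by
  refine isMonHom_of_mul _ fun X x y => ?_
  have hcomm : y * x = x * y := by
    rw [← dsEquiv_dsChar (x * y), ← dsEquiv_dsChar (y * x), dsChar_mul, dsChar_mul, mul_comm]
  rw [MonObj.comp_mul, MonObj.comp_mul, MonObj.comp_mul, GrpObj.comp_inv, GrpObj.comp_inv,
    GrpObj.comp_inv, MonObj.mul_comp, MonObj.mul_comp, _root_.mul_inv_rev]
  have h1 : Commute (y ≫ d₁) (x ≫ d₂) := hc X y x
  have h2 : Commute (y ≫ d₂) (x ≫ d₂) := by
    have h0 : (y * x) ≫ d₂ = (x * y) ≫ d₂ := congrArg (fun z => z ≫ d₂) hcomm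
    exact (MonObj.mul_comp y x d₂).symm.trans (h0.trans (MonObj.mul_comp x y d₂))
  have h3 : Commute (y ≫ d₁ * (y ≫ d₂)⁻¹) (x ≫ d₂)⁻¹ := (h1.mul_left h2.inv_left).inv_right
  rw [_root_.mul_assoc, ← _root_.mul_assoc (y ≫ d₁), h3.eq, ← _root_.mul_assoc]

/-- Two commuting homomorphisms from a diagonalizable group of finite type, over a local base, which agree
over the closed point are equal. -/
theorem eq_of_comm [AddGroup.FG M] [LocallyOfFiniteType G.hom] (d₁ d₂ : Red.DS (Spec (CommRingCat.of A)) M ⟶ G)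
    [IsMonHom d₁] [IsMonHom d₂]
    (hc : ∀ (X : Over (Spec (CommRingCat.of A))) (x y : X ⟶ Red.DS (Spec (CommRingCat.of A)) M),
      (x ≫ d₁) * (y ≫ d₂) = (y ≫ d₂) * (x ≫ d₁))
    (h0 : ∀ (T : Over (Spec (CommRingCat.of A))) (_ : T ⟶ Over.mk (qMap (IsLocalRing.maximalIdeal A)))
      (q : T ⟶ Red.DS (Spec (CommRingCat.of A)) M), q ≫ d₁ = q ≫ d₂) : d₁ = d₂ := by
  have hm := isMonHom_mul_inv d₁ d₂ hc
  have h1 : d₁ * d₂⁻¹ = 1 := by
    apply eq_one
    intro T t q
    rw [MonObj.comp_mul, GrpObj.comp_inv, h0 T t q, mul_inv_cancel]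
  exact mul_inv_eq_one.1 h1

end local_ring

end Groth.Agent.Sga3.H800.LocRigid
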