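import Groth.Agent.Sga3.H800.FieldMax
import Groth.Agent.Sga3.H800.LocRigid
import Groth.Agent.Sga3B.TorusAlgClosed
import Groth.Agent.Sga3B.TorusBc

/-!
# Factorisation of a homomorphism through a monomorphism over a base change

`FacOver x i j`: after base change along `x : S' ⟶ S` the morphism `j : R ⟶ G` factors through `i : T ⟶ G`.
-/

set_option autoImplicit false
universe u
open CategoryTheory MonoidalCategory CartesianMonoidalCategory MonObj GrpObj AlgebraicGeometry Limits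

namespace Groth.Agent.Sga3.H800.FacOver

open Groth.Agent.Sga3B.DSPts Groth.Agent.Sga3B.InfConj Groth.Agent.Sga3B.InfConjFam Groth.Agent.Sga3B.DSRigid
  Groth.Agent.Sga3B Groth.Agent.Sga3.H800.LocRig Groth.Agent.Sga3.H800.LocRigid

section basic

variable {S S' : Scheme.{u}}

/-- After base change along `x` the morphism `j` factors through `i`. -/
def FacOver (x : S' ⟶ S) {T R G : Over S} (i : T ⟶ G) (j : R ⟶ G) : Prop :=
  ∀ (X : Over S) (_ : X ⟶ Over.mk x) (r : X ⟶ R), ∃ y : X ⟶ T, y ≫ i = r ≫ j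

lemma FacOver.comp {x : S' ⟶ S} {T R G : Over S} {i : T ⟶ G} {j : R ⟶ G} (h : FacOver x i j) {S'' : Scheme.{u}}
    (x' : S'' ⟶ S') : FacOver (x' ≫ x) i j := fun X t r =>
  h X (t ≫ (Over.homMk x' rfl : Over.mk (x' ≫ x) ⟶ Over.mk x)) r

lemma ev_comp_map {x : S' ⟶ S} {X Y Z : Over S} (φ : Red.bc x X ⟶ Red.bc x Y) (g : Y ⟶ Z) {T : Over S}
    (q : T ⟶ X) (t : T ⟶ Over.mk x) :
    BcPts.ev φ q t ≫ g = BcPts.ev (φ ≫ (Over.pullback x).map g) q t := by
  simp only [BcPts.ev]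
  rw [← Category.assoc _ φ, BcPts.bcEquiv_symm_comp, Category.assoc]

lemma ev_map {x : S' ⟶ S} {X Z : Over S} (g : X ⟶ Z) {T : Over S} (q : T ⟶ X) (t : T ⟶ Over.mk x) :
    BcPts.ev ((Over.pullback x).map g : Red.bc x X ⟶ Red.bc x Z) q t = q ≫ g := by
  have h := ev_comp_map (x := x) (𝟙 (Red.bc x X)) g q t
  rw [BcPts.ev_id, Category.id_comp] at h
  exact h.symm

lemma facOver_of_map {x : S' ⟶ S} {T R G : Over S} {i : T ⟶ G} {j : R ⟶ G} (φ : Red.bc x R ⟶ Red.bc x T)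
    (h : φ ≫ (Over.pullback x).map i = (Over.pullback x).map j) : FacOver x i j := fun X t r =>
  ⟨BcPts.ev φ r t, by rw [ev_comp_map, h, ev_map]⟩

/-- Commutation of two families of points after base change. -/
lemma comm_bc (x : S' ⟶ S) {T R G : Over S} [GrpObj G] {i : T ⟶ G} {j : R ⟶ G}
    (hcomm : ∀ (X : Over S) (t : X ⟶ T) (r : X ⟶ R), (t ≫ i) * (r ≫ j) = (r ≫ j) * (t ≫ i))
    (X : Over S') (t : X ⟶ Red.bc x T) (r : X ⟶ Red.bc x R) :
    (t ≫ (Over.pullback x).map i) * (r ≫ (Over.pullback x).map j) =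
      (r ≫ (Over.pullback x).map j) * (t ≫ (Over.pullback x).map i) := by
  obtain ⟨t, rfl⟩ := (BcPts.bcEquiv x X T).surjective t
  obtain ⟨r, rfl⟩ := (BcPts.bcEquiv x X R).surjective r
  have h := hcomm _ t r
  rw [← BcPts.bcEquiv_comp, ← BcPts.bcEquiv_comp, ← BcPts.bcEquiv_mul, ← BcPts.bcEquiv_mul, h]

end basic

/-- **Geometric fibres.** -/
theorem facOver_geomPt {S : Scheme.{u}} {T R G : Over S} [GrpObj G] [GrpObj T] [GrpObj R] (i : T ⟶ G) (j : R ⟶ G)
    (hT : Red.IsMaximalTorus i) [IsMonHom j] (hR : Red.IsTorus R)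
    (hcomm : ∀ (X : Over S) (t : X ⟶ T) (r : X ⟶ R), (t ≫ i) * (r ≫ j) = (r ≫ j) * (t ≫ i)) (s : S) :
    FacOver (Red.geomPt s) i j := by
  obtain ⟨hi1, hi2, hi3, hi4⟩ := hT
  obtain ⟨m, ⟨eT⟩⟩ := TorusAlgClosed.exists_isSplitTorusWith (TorusBc.isTorus_bc (Red.geomPt s) hi3)
  obtain ⟨n, ⟨eR⟩⟩ := TorusAlgClosed.exists_isSplitTorusWith (TorusBc.isTorus_bc (Red.geomPt s) hR)
  have h1 : IsMonHom ((Over.pullback (Red.geomPt s)).map i) := inferInstance
  have h2 : IsMonHom ((Over.pullback (Red.geomPt s)).map j) := inferInstance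
  obtain ⟨φ, hφ⟩ := FieldMax.exists_factor eT eR ((Over.pullback (Red.geomPt s)).map i)
    ((Over.pullback (Red.geomPt s)).map j) (comm_bc (Red.geomPt s) hcomm)
    (fun T' _ j' _ _ f hT' hf => hi4 s T' j' f hT' hf)
  exact facOver_of_map φ hφ

end Groth.Agent.Sga3.H800.FacOver
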