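import Groth.Agent.Sga3.H800.FieldKer
import Mathlib.AlgebraicGeometry.Sites.Fpqc
import Mathlib.AlgebraicGeometry.Morphisms.FlatDescent

/-!
# Images of homomorphisms from diagonalizable groups over a field

`k` a field, `G` any group scheme over `k`, `φ : D(Λ) ⟶ G` a homomorphism.  Then `φ` factors as
`D(Λ) ⟶ D(L) ⟶ G` for a subgroup `L` of `Λ`, the first map is faithfully flat, the second a monomorphism.
-/

set_option autoImplicit false
universe u
open CategoryTheory MonoidalCategory CartesianMonoidalCategory MonObj GrpObj AlgebraicGeometry Limits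

namespace Groth.Agent.Sga3.H800.FieldImg

open Groth.Agent.Sga3B.DSPts Groth.Agent.Sga3B Groth.Agent.Books.AffBridge Groth.Agent.Sga3B.DSAff
  Groth.Agent.Sga3B.AffPts

/-- Descent of morphisms over `S` along a quasi-compact faithfully flat morphism. -/
theorem exists_desc {S : Scheme.{u}} {X Y G : Over S} (p : X ⟶ Y) [Flat p.left] [Surjective p.left]
    [QuasiCompact p.left] (φ : X ⟶ G) (h : ∀ (T : Over S) (a b : T ⟶ X), a ≫ p = b ≫ p → a ≫ φ = b ≫ φ) :
    ∃ ψ : Y ⟶ G, p ≫ ψ = φ := by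
  have h1 : ∀ {Z : Scheme.{u}} (g₁ g₂ : Z ⟶ X.left), g₁ ≫ p.left = g₂ ≫ p.left →
      g₁ ≫ φ.left = g₂ ≫ φ.left := by
    intro Z g₁ g₂ hg
    let T : Over S := Over.mk (g₁ ≫ X.hom)
    let a : T ⟶ X := Over.homMk g₁ rfl
    let b : T ⟶ X := Over.homMk g₂ (by
      change g₂ ≫ X.hom = g₁ ≫ X.hom
      rw [← Over.w p, ← Category.assoc, ← Category.assoc, hg])
    exact congrArg (fun z => z.left) (h T a b (by ext1; exact hg))
  let ψ₀ : Y.left ⟶ G.left := EffectiveEpi.desc p.left φ.left h1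
  have h2 : p.left ≫ ψ₀ = φ.left := EffectiveEpi.fac p.left φ.left h1
  have h3 : Epi p.left := inferInstance
  refine ⟨Over.homMk ψ₀ ?_, ?_⟩
  · rw [← cancel_epi p.left, ← Category.assoc, h2, Over.w, Over.w]
  · ext1
    exact h2

lemma epi_of_flat {S : Scheme.{u}} {X Y : Over S} (p : X ⟶ Y) [Flat p.left] [Surjective p.left]
    [QuasiCompact p.left] : Epi p := by
  have h3 : Epi p.left := inferInstance
  refine ⟨fun f g h => ?_⟩
  ext1
  rw [← cancel_epi p.left, ← Over.comp_left, ← Over.comp_left, h]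

section

variable {k : Type u} [Field k] {Λ : Type} [AddCommGroup Λ]

variable (k) in
/-- `k[Λ'] → k[Λ]` as a bialgebra map. -/
noncomputable abbrev mdB {Λ' : Type} [AddCommGroup Λ'] (f : Λ' →+ Λ) :
    MonoidAlgebra k (Multiplicative Λ') →ₐc[k] MonoidAlgebra k (Multiplicative Λ) :=
  MonoidAlgebra.mapDomainBialgHom k (AddMonoidHom.toMultiplicative f)

variable (k) in
/-- `k[Λ'] → k[Λ]` as an algebra map. -/
noncomputable abbrev mdA {Λ' : Type} [AddCommGroup Λ'] (f : Λ' →+ Λ) :
    MonoidAlgebra k (Multiplicative Λ') →ₐ[k] MonoidAlgebra k (Multiplicative Λ) := mdB k f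

lemma DSmap_dsTo {Λ' : Type} [AddCommGroup Λ'] (f : Λ' →+ Λ) :
    Red.DSmap (Spec (CommRingCat.of k)) f ≫ dsTo k Λ' = dsTo k Λ ≫ specMap k (mdA k f) := by
  rw [comp_dsTo, dsTo, affPt_specMap]
  congr 1
  have h1 : fnChar (Red.DSmap (Spec (CommRingCat.of k)) f) =
      (fnChar (𝟙 (Red.DS (Spec (CommRingCat.of k)) Λ))).comp (AddMonoidHom.toMultiplicative f) := by
    have := dsChar_DSmap f (𝟙 (Red.DS (Spec (CommRingCat.of k)) Λ))
    rw [Category.id_comp] at this
    exact this
  rw [h1]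
  refine MonoidAlgebra.algHom_ext (fun m => ?_) (Subsingleton.elim _ _)
  simp [chAlg]

/-- `D(Λ) ⟶ D(L)` is faithfully flat and affine. -/
lemma flat_DSmap {Λ' : Type} [AddCommGroup Λ'] (f : Λ' →+ Λ) (hf : Function.Injective f) :
    Flat (Red.DSmap (Spec (CommRingCat.of k)) f).left ∧ Surjective (Red.DSmap (Spec (CommRingCat.of k)) f).left ∧
      QuasiCompact (Red.DSmap (Spec (CommRingCat.of k)) f).left := by
  have hθ : Function.Injective (mdB k f) := by
    intro x y h
    have h1 : Function.Injective (AddMonoidHom.toMultiplicative f) := fun a b h => hf h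
    exact MonoidAlgebra.mapDomain_injective h1 h
  have hff := MiscA.HopfFlat.faithfullyFlat (mdB k f) hθ
  have h1 : Flat (specMap k (mdA k f)).left := by
    change Flat (Spec.map (CommRingCat.ofHom (mdA k f).toRingHom))
    rw [Flat.SpecMap_iff]
    exact hff.flat
  have h2 : Surjective (specMap k (mdA k f)).left := by
    change Surjective (Spec.map (CommRingCat.ofHom (mdA k f).toRingHom))
    exact ⟨(RingHom.FaithfullyFlat.iff_flat_and_comap_surjective.mp hff).2⟩
  have h3 : QuasiCompact (specMap k (mdA k f)).left :=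
    inferInstanceAs (QuasiCompact (Spec.map _))
  have i1 : IsIso (dsTo k Λ').left := inferInstanceAs (IsIso ((Over.forget _).map (dsTo k Λ')))
  have i2 : IsIso (dsTo k Λ).left := inferInstanceAs (IsIso ((Over.forget _).map (dsTo k Λ)))
  have h4 : (Red.DSmap (Spec (CommRingCat.of k)) f).left = (dsTo k Λ).left ≫
      (specMap k (mdA k f)).left ≫ inv (dsTo k Λ').left := by
    rw [← Category.assoc, IsIso.eq_comp_inv, ← Over.comp_left, ← Over.comp_left, DSmap_dsTo]
  rw [h4]
  exact ⟨inferInstance, inferInstance, inferInstance⟩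

/-- Flat covers can be used to test equality of points after pullback. -/
lemma exists_cover {S : Scheme.{u}} {X Y T : Over S} (p : X ⟶ Y) [Flat p.left] [Surjective p.left]
    [QuasiCompact p.left] (y : T ⟶ Y) : ∃ (T' : Over S) (q : T' ⟶ T) (x : T' ⟶ X), Epi q ∧ x ≫ p = q ≫ y := by
  let T' : Over S := Over.mk (pullback.snd p.left y.left ≫ T.hom)
  let q : T' ⟶ T := Over.homMk (pullback.snd p.left y.left) rfl
  let x : T' ⟶ X := Over.homMk (pullback.fst p.left y.left) (by
    change _ = pullback.snd p.left y.left ≫ T.hom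
    rw [← Over.w p, ← Category.assoc, pullback.condition, Category.assoc, Over.w])
  have h1 : Flat q.left := inferInstanceAs (Flat (pullback.snd p.left y.left))
  have h2 : Surjective q.left := inferInstanceAs (Surjective (pullback.snd p.left y.left))
  have h3 : QuasiCompact q.left := inferInstanceAs (QuasiCompact (pullback.snd p.left y.left))
  refine ⟨T', q, x, epi_of_flat q, ?_⟩
  ext1
  exact pullback.condition

/-- **Images of homomorphisms from diagonalizable groups over a field.** -/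
theorem exists_image {G : Over (Spec (CommRingCat.of k))} [GrpObj G]
    (φ : Red.DS (Spec (CommRingCat.of k)) Λ ⟶ G) [IsMonHom φ] :
    ∃ (L : AddSubgroup Λ) (ψ : Red.DS (Spec (CommRingCat.of k)) L ⟶ G), IsMonHom ψ ∧ Mono ψ ∧
      Red.DSmap (Spec (CommRingCat.of k)) L.subtype ≫ ψ = φ := by
  obtain ⟨L, hL⟩ := FieldKer.exists_sub φ
  let p := Red.DSmap (Spec (CommRingCat.of k)) L.subtype
  obtain ⟨hp1, hp2, hp3⟩ := flat_DSmap (k := k) L.subtype L.subtype_injective
  have hpm : IsMonHom p := LocRigid.isMonHom_DSmap _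
  have hφ : ∀ (T : Over (Spec (CommRingCat.of k))) (a b : T ⟶ Red.DS (Spec (CommRingCat.of k)) Λ),
      a ≫ p = b ≫ p → a ≫ φ = b ≫ φ := by
    intro T a b hab
    have h1 : (a * b⁻¹) ≫ p = 1 := by
      have e := MonObj.mul_comp a b⁻¹ p
      have e' := GrpObj.inv_comp b p
      rw [e, e', hab, mul_inv_cancel]
    have h2 := (hL T _).mpr h1
    rw [MonObj.mul_comp, GrpObj.inv_comp, mul_inv_eq_one] at h2
    exact h2
  obtain ⟨ψ, hψ⟩ := exists_desc p φ hφ
  have hψm : IsMonHom ψ := by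
    refine InfConjFam.isMonHom_of_mul _ fun T x y => ?_
    obtain ⟨T₁, q₁, x', hq₁, hx'⟩ := exists_cover p x
    obtain ⟨T₂, q₂, y', hq₂, hy'⟩ := exists_cover p (q₁ ≫ y)
    have hepi : Epi (q₂ ≫ q₁) := inferInstance
    rw [← cancel_epi (q₂ ≫ q₁), MonObj.comp_mul]
    have e1 : (q₂ ≫ q₁) ≫ x = (q₂ ≫ x') ≫ p := by rw [Category.assoc, Category.assoc, hx']
    have e2 : (q₂ ≫ q₁) ≫ y = y' ≫ p := by rw [hy', Category.assoc]
    have e3 : (q₂ ≫ q₁) ≫ (x * y) = ((q₂ ≫ x') * y') ≫ p := by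
      have e := MonObj.mul_comp (q₂ ≫ x') y' p
      rw [MonObj.comp_mul, e1, e2, e]
    rw [← Category.assoc (q₂ ≫ q₁) (x * y), e3, ← Category.assoc (q₂ ≫ q₁) x, e1,
      ← Category.assoc (q₂ ≫ q₁) y, e2, Category.assoc, Category.assoc (q₂ ≫ x'), Category.assoc y', hψ,
      MonObj.mul_comp]
  refine ⟨L, ψ, hψm, ⟨?_⟩, hψ⟩
  intro T x y hxy
  have h1 : (x * y⁻¹) ≫ ψ = 1 := by
    rw [MonObj.mul_comp, GrpObj.inv_comp, hxy, mul_inv_cancel]
  obtain ⟨T', q, z, hq, hz⟩ := exists_cover p (x * y⁻¹)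
  have h2 : z ≫ φ = 1 := by
    rw [← hψ, ← Category.assoc, hz, Category.assoc, h1, MonObj.comp_one]
  have h3 : q ≫ (x * y⁻¹) = q ≫ 1 := by
    rw [← hz, (hL T' z).mp h2, MonObj.comp_one]
  rw [cancel_epi] at h3
  exact mul_inv_eq_one.mp h3

end

end Groth.Agent.Sga3.H800.FieldImg
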