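import Groth.Agent.Sga3B.KerGrp
import Groth.Agent.Sga3B.DSAff
import Groth.Agent.Sga3.H800.LocRigid
import Groth.Agent.MiscA.HopfFlat

/-!
# Kernels of homomorphisms from diagonalizable groups over a field

`k` a field, `G` any group scheme over `k`, `φ : D(Λ) ⟶ G` a homomorphism.  The kernel of `φ` is the kernel of
`D(Λ) ⟶ D(L)` for a subgroup `L` of `Λ`.
-/

set_option autoImplicit false
universe u
open CategoryTheory MonoidalCategory CartesianMonoidalCategory MonObj GrpObj AlgebraicGeometry Limits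

namespace Groth.Agent.Sga3.H800.FieldKer

open Groth.Agent.Sga3B.DSPts Groth.Agent.Sga3B Groth.Agent.Books.AffBridge Groth.Agent.Sga3B.DSAff
  Groth.Agent.Sga3B.AffPts

section lin

variable {k : Type u} [Field k] {Λ : Type} [CommGroup Λ] {B : Type u} [CommRing B] [Bialgebra k B]
  (π : MonoidAlgebra k Λ →ₐc[k] B)

/-- The character of `Λ` with values in the units of `B`. -/
noncomputable def chr : Λ →* B := (π : MonoidAlgebra k Λ →* B).comp (MonoidAlgebra.of k Λ)

lemma chr_apply (m : Λ) : chr π m = π (MonoidAlgebra.single m 1) := rfl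

/-- The subgroup of `Λ` of the elements which become trivial in `B`. -/
noncomputable def trivSub : Subgroup Λ := (chr π).ker

lemma mem_trivSub (m : Λ) : m ∈ trivSub π ↔ π (MonoidAlgebra.single m 1) = 1 := Iff.rfl

/-- the values of `π` on the classes modulo the trivial subgroup -/
noncomputable def cls : Λ ⧸ trivSub π →* B := QuotientGroup.lift (trivSub π) (chr π) fun _ h => h

lemma cls_mk (m : Λ) : cls π (QuotientGroup.mk m) = π (MonoidAlgebra.single m 1) := rfl

lemma cls_injective : Function.Injective (cls π) := by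
  rw [injective_iff_map_eq_one]
  intro x hx
  obtain ⟨m, rfl⟩ := QuotientGroup.mk_surjective x
  exact (QuotientGroup.eq_one_iff m).mpr hx

lemma isGroupLikeElem_cls (x : Λ ⧸ trivSub π) : IsGroupLikeElem k (cls π x) := by
  obtain ⟨m, rfl⟩ := QuotientGroup.mk_surjective x
  rw [cls_mk]
  exact (MonoidAlgebra.isGroupLikeElem_single_one m).map π

lemma linearIndependent_cls : LinearIndependent k (cls π) := by
  have h1 := (linearIndep_groupLikeVal (R := k) (A := B)).comp
    (fun x => (⟨cls π x, isGroupLikeElem_cls π x⟩ : GroupLike k B)) (by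
      intro x y h
      exact cls_injective π (congrArg GroupLike.val h))
  exact h1

lemma lift_eq_zero {B' : Type u} [CommRing B'] [Algebra k B'] (χ : Λ →* B') (h : ∀ m ∈ trivSub π, χ m = 1)
    (a : MonoidAlgebra k Λ) (ha : π a = 0) : MonoidAlgebra.lift k B' Λ χ a = 0 := by
  let ρ : MonoidAlgebra k Λ →ₗ[k] (Λ ⧸ trivSub π →₀ k) :=
    Finsupp.lmapDomain k k (QuotientGroup.mk : Λ → Λ ⧸ trivSub π) ∘ₗ
      (MonoidAlgebra.coeffLinearEquiv k).toLinearMap
  let δ : Λ ⧸ trivSub π →* B' := QuotientGroup.lift (trivSub π) χ h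
  have h1 : (π : MonoidAlgebra k Λ →ₗ[k] B) = Finsupp.linearCombination k (cls π) ∘ₗ ρ := by
    ext m
    simp [ρ, cls_mk]
  have h2 : (MonoidAlgebra.lift k B' Λ χ : MonoidAlgebra k Λ →ₗ[k] B') = Finsupp.linearCombination k δ ∘ₗ ρ := by
    ext m
    simp [ρ, δ]
  have h3 : ρ a = 0 := by
    apply linearIndependent_cls π
    rw [map_zero]
    exact (congr($h1 a)).symm.trans ha
  have h4 := congr($h2 a)
  rw [LinearMap.comp_apply, h3, map_zero] at h4
  exact h4

end lin

section sch

variable {k : Type u} [Field k] {G : Over (Spec (CommRingCat.of k))} [GrpObj G] {Λ : Type} [AddCommGroup Λ]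
  (φ : Red.DS (Spec (CommRingCat.of k)) Λ ⟶ G) [IsMonHom φ]

lemma isAffine_DS : IsAffine (Red.DS (Spec (CommRingCat.of k)) Λ).left := by
  have h1 : IsIso (dsTo k Λ).left := inferInstanceAs (IsIso ((Over.forget _).map (dsTo k Λ)))
  have h2 : IsAffine (SpecOver k (MonoidAlgebra k (Multiplicative Λ))).left := inferInstanceAs (IsAffine (Spec _))
  exact IsAffine.of_isIso (dsTo k Λ).left

lemma surjective_of_isClosedImmersion {A B : Type u} [CommRing A] [CommRing B] (f : A →+* B)
    (h : IsClosedImmersion (Spec.map (CommRingCat.ofHom f))) : Function.Surjective f := by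
  have h1 := (IsClosedImmersion.isAffine_surjective_of_isAffine (Spec.map (CommRingCat.ofHom f))).2
  have h2 : CommRingCat.ofHom f = (Scheme.ΓSpecIso (.of A)).inv ≫ (Spec.map (CommRingCat.ofHom f)).appTop ≫
      (Scheme.ΓSpecIso (.of B)).hom := by
    rw [← Scheme.ΓSpecIso_inv_naturality_assoc, Iso.inv_hom_id, Category.comp_id]
  have h3 : Function.Surjective (CommRingCat.ofHom f).hom := by
    rw [h2]
    exact ((ConcreteCategory.bijective_of_isIso (Scheme.ΓSpecIso (.of B)).hom).2.comp h1).comp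
      (ConcreteCategory.bijective_of_isIso (Scheme.ΓSpecIso (.of A)).inv).2
  exact h3

/-- The kernel of a homomorphism from a diagonalizable group over a field, in terms of Hopf algebras. -/
lemma exists_bialg : ∃ (B : Type u) (_ : CommRing B) (_ : HopfAlgebra k B)
    (π : MonoidAlgebra k (Multiplicative Λ) →ₐc[k] B), Function.Surjective π ∧
    ∀ (T : Over (Spec (CommRingCat.of k))) (x : T ⟶ Red.DS (Spec (CommRingCat.of k)) Λ),
      x ≫ φ = 1 ↔ ∃ y : T ⟶ SpecOver k B, y ≫ specMap k (π : _ →ₐ[k] B) = x ≫ dsTo k Λ := by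
  have hsep : IsSeparated G.hom := Localalg.GrpSchComp2.isSeparated_hom G
  obtain ⟨_, hm⟩ := KerGrp.exists_grpObj φ
  have h1 : IsAffine (Red.DS (Spec (.of k)) Λ).left := isAffine_DS
  have h2 : IsAffine (KerGrp.kerObj φ).left := isAffine_of_isAffineHom (KerGrp.kerι φ).left
  obtain ⟨B, _, _, e, he⟩ := exists_hopf k (KerGrp.kerObj φ)
  have h3 : IsMonHom (e.inv ≫ KerGrp.kerι φ ≫ dsTo k Λ) := inferInstance
  obtain ⟨π, hπ⟩ := exists_bialgHom_of_isMonHom k (e.inv ≫ KerGrp.kerι φ ≫ dsTo k Λ)
  refine ⟨B, inferInstance, inferInstance, π, ?_, ?_⟩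
  · have h4 : IsClosedImmersion (specMap k (π : MonoidAlgebra k (Multiplicative Λ) →ₐ[k] B)).left := by
      rw [hπ]
      have h5 : IsIso (dsTo k Λ).left := inferInstanceAs (IsIso ((Over.forget _).map (dsTo k Λ)))
      have h6 : IsIso e.inv.left := inferInstanceAs (IsIso ((Over.forget _).map e.inv))
      change IsClosedImmersion (e.inv.left ≫ (KerGrp.kerι φ).left ≫ (dsTo k Λ).left)
      infer_instance
    rw [specMap_left] at h4
    exact surjective_of_isClosedImmersion _ h4
  · intro T x
    constructor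
    · intro h
      obtain ⟨t, rfl⟩ := KerGrp.exists_lift φ x h
      refine ⟨t ≫ e.hom, ?_⟩
      rw [hπ]
      simp
    · rintro ⟨y, hy⟩
      rw [hπ] at hy
      have h5 : x = y ≫ e.inv ≫ KerGrp.kerι φ := by
        rw [← cancel_mono (dsTo k Λ), ← hy]
        simp
      rw [h5, Category.assoc, Category.assoc, KerGrp.kerι_comp, MonObj.comp_one, MonObj.comp_one]

/-- **Kernels of homomorphisms from diagonalizable groups over a field.** -/
theorem exists_sub : ∃ L : AddSubgroup Λ, ∀ (T : Over (Spec (CommRingCat.of k)))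
    (x : T ⟶ Red.DS (Spec (CommRingCat.of k)) Λ),
      x ≫ φ = 1 ↔ x ≫ Red.DSmap (Spec (CommRingCat.of k)) L.subtype = 1 := by
  obtain ⟨B, _, _, π, hπ, H⟩ := exists_bialg φ
  let L : AddSubgroup Λ := Subgroup.toAddSubgroup' (trivSub π)
  refine ⟨L, fun T x => ?_⟩
  have hL : x ≫ Red.DSmap (Spec (CommRingCat.of k)) L.subtype = 1 ↔ ∀ m ∈ trivSub π, fnChar x m = 1 := by
    rw [← (dsEquiv T L).symm.injective.eq_iff, map_one]
    change dsChar _ = 1 ↔ _
    rw [dsChar_DSmap]
    constructor
    · intro h m hm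
      exact congr($h (Multiplicative.ofAdd (⟨Multiplicative.toAdd m, hm⟩ : L)))
    · intro h
      refine MonoidHom.ext fun m => ?_
      exact h _ (Multiplicative.toAdd m).2
  rw [H T x, hL]
  constructor
  · rintro ⟨y, hy⟩ m hm
    obtain ⟨g, rfl⟩ := (affPt_bijective T).2 y
    rw [affPt_specMap, comp_dsTo] at hy
    have h1 := congr($((affPt_bijective T).1 hy) (MonoidAlgebra.single m 1))
    rw [chAlg, MonoidAlgebra.lift_single, one_smul] at h1
    rw [← h1]
    change g (π _) = 1
    rw [(mem_trivSub π m).mp hm, map_one]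
  · intro h
    have h1 : RingHom.ker (π : MonoidAlgebra k (Multiplicative Λ) →ₐ[k] B) ≤
        RingHom.ker (chAlg (R := k) (fnChar x)) := by
      intro a ha
      exact lift_eq_zero π (fnChar x) h a ha
    let g : B →ₐ[k] Fn T := AlgHom.liftOfSurjective (π : MonoidAlgebra k (Multiplicative Λ) →ₐ[k] B) hπ
      (chAlg (R := k) (fnChar x)) h1
    refine ⟨affPt T g, ?_⟩
    rw [affPt_specMap, comp_dsTo]
    congr 1
    refine AlgHom.ext fun a => ?_
    exact AlgHom.liftOfSurjective_apply _ hπ _ h1 a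

end sch

end Groth.Agent.Sga3.H800.FieldKer
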