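import Groth.Agent.Sga3.H800.FieldImg
import Groth.Agent.Sga3B.Trans894

/-!
# Subtori commuting with a maximal torus over a field

`k` a field, `G` a group scheme over `k`, `T`, `R` split tori with homomorphisms to `G` which commute.  If `T` is
maximal among the subtori of `G` then `R ⟶ G` factors through `T`.
-/

set_option autoImplicit false
universe u
open CategoryTheory MonoidalCategory CartesianMonoidalCategory MonObj GrpObj AlgebraicGeometry Limits

namespace Groth.Agent.Sga3.H800.FieldMax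

open Groth.Agent.Sga3B.DSPts Groth.Agent.Sga3B

section DS

variable {S : Scheme.{u}} {M N P : Type} [AddCommGroup M] [AddCommGroup N] [AddCommGroup P]

lemma DSmap_add (φ ψ : M →+ N) : Red.DSmap S (φ + ψ) = Red.DSmap S φ * Red.DSmap S ψ := by
  apply (dsEquiv _ M).symm.injective
  change dsChar _ = dsChar _
  rw [dsChar_mul, ← Category.id_comp (Red.DSmap S (φ + ψ)), ← Category.id_comp (Red.DSmap S φ),
    ← Category.id_comp (Red.DSmap S ψ), dsChar_DSmap, dsChar_DSmap, dsChar_DSmap]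
  refine MonoidHom.ext fun m => ?_
  exact map_mul (dsChar (𝟙 (Red.DS S N))) (Multiplicative.ofAdd (φ (Multiplicative.toAdd m)))
    (Multiplicative.ofAdd (ψ (Multiplicative.toAdd m)))

lemma DSmap_zero : Red.DSmap S (0 : M →+ N) = 1 := by
  apply (dsEquiv _ M).symm.injective
  change dsChar _ = (dsEquiv _ M).symm 1
  rw [map_one, ← Category.id_comp (Red.DSmap S (0 : M →+ N)), dsChar_DSmap]
  refine MonoidHom.ext fun m => ?_
  exact map_one (dsChar (𝟙 (Red.DS S N)))

variable {G : Over S} [GrpObj G] (i : Red.DS S M ⟶ G) (j : Red.DS S N ⟶ G) [IsMonHom i] [IsMonHom j]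

/-- The homomorphism `D(M × N) = D(M) × D(N) ⟶ G` attached to two commuting homomorphisms. -/
noncomputable def prodHom : Red.DS S (M × N) ⟶ G :=
  (Red.DSmap S (AddMonoidHom.inl M N) ≫ i) * (Red.DSmap S (AddMonoidHom.inr M N) ≫ j)

omit [IsMonHom i] [IsMonHom j] in
lemma comp_prodHom {X : Over S} (x : X ⟶ Red.DS S (M × N)) :
    x ≫ prodHom i j = ((x ≫ Red.DSmap S (AddMonoidHom.inl M N)) ≫ i) *
      ((x ≫ Red.DSmap S (AddMonoidHom.inr M N)) ≫ j) := by
  rw [prodHom, MonObj.comp_mul, Category.assoc, Category.assoc]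

omit [IsMonHom i] [IsMonHom j] in
lemma comm_aux {H : Type*} [Group H] (a b c d : H) (h : b * c = c * b) : a * b * (c * d) = a * c * (b * d) := by
  rw [_root_.mul_assoc, ← _root_.mul_assoc b, h, _root_.mul_assoc c, _root_.mul_assoc]

lemma isMonHom_prodHom
    (hc : ∀ (X : Over S) (x : X ⟶ Red.DS S M) (y : X ⟶ Red.DS S N), (x ≫ i) * (y ≫ j) = (y ≫ j) * (x ≫ i)) :
    IsMonHom (prodHom i j) := by
  refine InfConjFam.isMonHom_of_mul _ fun X x y => ?_
  have e1 := MonObj.mul_comp x y (Red.DSmap S (AddMonoidHom.inl M N))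
  have e2 := MonObj.mul_comp x y (Red.DSmap S (AddMonoidHom.inr M N))
  have h := hc X (y ≫ Red.DSmap S (AddMonoidHom.inl M N)) (x ≫ Red.DSmap S (AddMonoidHom.inr M N))
  have e3 := MonObj.mul_comp (x ≫ Red.DSmap S (AddMonoidHom.inl M N)) (y ≫ Red.DSmap S (AddMonoidHom.inl M N)) i
  have e4 := MonObj.mul_comp (x ≫ Red.DSmap S (AddMonoidHom.inr M N)) (y ≫ Red.DSmap S (AddMonoidHom.inr M N)) j
  have e5 : (x * y) ≫ prodHom i j = ((x ≫ Red.DSmap S (AddMonoidHom.inl M N)) ≫ i) *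
      ((y ≫ Red.DSmap S (AddMonoidHom.inl M N)) ≫ i) * (((x ≫ Red.DSmap S (AddMonoidHom.inr M N)) ≫ j) *
      ((y ≫ Red.DSmap S (AddMonoidHom.inr M N)) ≫ j)) := by
    rw [← e3, ← e4, ← e1, ← e2]
    exact comp_prodHom i j (x * y)
  have e6 := congrArg₂ (· * ·) (comp_prodHom i j x) (comp_prodHom i j y)
  exact e5.trans ((comm_aux _ _ _ _ h).trans e6.symm)

omit [IsMonHom i] [IsMonHom j] in
lemma fst_prodHom [IsMonHom j] : Red.DSmap S (AddMonoidHom.fst M N) ≫ prodHom i j = i := by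
  rw [comp_prodHom, Trans894.DSmap_comp, Trans894.DSmap_comp, AddMonoidHom.fst_comp_inl,
    AddMonoidHom.fst_comp_inr, Trans894.DSmap_id, DSmap_zero, Category.id_comp, MonObj.one_comp, _root_.mul_one]

omit [IsMonHom i] [IsMonHom j] in
lemma snd_prodHom [IsMonHom i] : Red.DSmap S (AddMonoidHom.snd M N) ≫ prodHom i j = j := by
  rw [comp_prodHom, Trans894.DSmap_comp, Trans894.DSmap_comp, AddMonoidHom.snd_comp_inl,
    AddMonoidHom.snd_comp_inr, Trans894.DSmap_id, DSmap_zero, Category.id_comp, MonObj.one_comp, _root_.one_mul]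

end DS

/-- **Subtori commuting with a maximal torus, over a field.** -/
theorem exists_factor {k : Type u} [Field k] {G T R : Over (Spec (CommRingCat.of k))} [GrpObj G] [GrpObj T] [GrpObj R]
    {M N : Type} [AddCommGroup M] [Module.Free ℤ M] [Module.Finite ℤ M] [AddCommGroup N] [Module.Free ℤ N]
    [Module.Finite ℤ N] (eT : Grp.mk T ≅ Grp.mk (Red.DS (Spec (CommRingCat.of k)) M))
    (eR : Grp.mk R ≅ Grp.mk (Red.DS (Spec (CommRingCat.of k)) N)) (i : T ⟶ G) (j : R ⟶ G) [IsMonHom i] [IsMonHom j]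
    (hc : ∀ (X : Over (Spec (CommRingCat.of k))) (x : X ⟶ T) (y : X ⟶ R), (x ≫ i) * (y ≫ j) = (y ≫ j) * (x ≫ i))
    (hmax : ∀ (T' : Over (Spec (CommRingCat.of k))) [GrpObj T'] (j' : T' ⟶ G) [IsMonHom j'] [Mono j'] (f : T ⟶ T'),
      Red.IsTorus T' → f ≫ j' = i → IsIso f) : ∃ f : R ⟶ T, f ≫ i = j := by
  have hT1 : eT.hom.hom.hom ≫ eT.inv.hom.hom = 𝟙 _ := congrArg (fun f => f.hom.hom) eT.hom_inv_id
  have hR1 : eR.hom.hom.hom ≫ eR.inv.hom.hom = 𝟙 _ := congrArg (fun f => f.hom.hom) eR.hom_inv_id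
  have mT : IsMonHom eT.inv.hom.hom := eT.inv.hom.isMonHom_hom
  have mR : IsMonHom eR.inv.hom.hom := eR.inv.hom.isMonHom_hom
  let i' : Red.DS (Spec (CommRingCat.of k)) M ⟶ G := eT.inv.hom.hom ≫ i
  let j' : Red.DS (Spec (CommRingCat.of k)) N ⟶ G := eR.inv.hom.hom ≫ j
  have mi : IsMonHom i' := inferInstance
  have mj : IsMonHom j' := inferInstance
  have hφ : IsMonHom (prodHom i' j') := isMonHom_prodHom i' j' fun X x y => by
    have := hc X (x ≫ eT.inv.hom.hom) (y ≫ eR.inv.hom.hom)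
    simpa only [i', j', Category.assoc] using this
  obtain ⟨L, ψ, hψ1, hψ2, hψ⟩ := FieldImg.exists_image (prodHom i' j')
  have : Module.Free ℤ (AddSubgroup.toIntSubmodule L) := inferInstance
  have : Module.Finite ℤ (AddSubgroup.toIntSubmodule L) := inferInstance
  have h1 : Module.Free ℤ L := inferInstanceAs (Module.Free ℤ (AddSubgroup.toIntSubmodule L))
  have h2 : Module.Finite ℤ L := inferInstanceAs (Module.Finite ℤ (AddSubgroup.toIntSubmodule L))
  let p := Red.DSmap (Spec (CommRingCat.of k)) L.subtype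
  let f : T ⟶ Red.DS (Spec (CommRingCat.of k)) L :=
    eT.hom.hom.hom ≫ Red.DSmap (Spec (CommRingCat.of k)) (AddMonoidHom.fst M N) ≫ p
  let g : R ⟶ Red.DS (Spec (CommRingCat.of k)) L :=
    eR.hom.hom.hom ≫ Red.DSmap (Spec (CommRingCat.of k)) (AddMonoidHom.snd M N) ≫ p
  have hf : f ≫ ψ = i := by
    simp only [f, Category.assoc, p]
    rw [hψ, fst_prodHom, ← Category.assoc, hT1, Category.id_comp]
  have hg : g ≫ ψ = j := by
    simp only [g, Category.assoc, p]
    rw [hψ, snd_prodHom, ← Category.assoc, hR1, Category.id_comp]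
  have hiso : IsIso f := hmax _ ψ f (Trans894.isTorus_DS _ L) hf
  refine ⟨g ≫ inv f, ?_⟩
  rw [← hg, ← hf, Category.assoc, IsIso.inv_hom_id_assoc]

end Groth.Agent.Sga3.H800.FieldMax
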