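import Groth.Agent.Sga3B.InfConj

/-!
# Homomorphisms from diagonalizable groups which are trivial modulo a square-zero ideal

`G` is any group scheme over `Spec C` whose unit section has an affine open neighbourhood (neither affine nor
separated), `I` a square-zero ideal of `C`.  A homomorphism `D(M) ⟶ G` which is trivial modulo `I` is trivial.
-/

set_option autoImplicit false
universe u
open CategoryTheory MonoidalCategory CartesianMonoidalCategory MonObj GrpObj AlgebraicGeometry Limits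

namespace Groth.Agent.Sga3.H800.InfTriv

open Groth.Agent.Sga3B.DSPts Groth.Agent.Sga3B.InfConj

variable {C : Type u} [CommRing C]

/-- Two morphisms with values in an affine open subscheme which agree on a schematically dominant
subscheme are equal. -/
lemma ext_of_ker_eq_bot_of_range {Z X W Y V : Scheme.{u}} [IsAffine V] [IsAffine Z] {f g : X ⟶ Y} (s : Y ⟶ Z)
    (j : V ⟶ Y) [IsOpenImmersion j] (h : f ≫ s = g ≫ s) (hf : Set.range f ⊆ Set.range j)
    (hg : Set.range g ⊆ Set.range j) (i : W ⟶ X) (hi : i.ker = ⊥) (hU : i ≫ f = i ≫ g) : f = g := by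
  have h1 : IsOpenImmersion.lift j f hf = IsOpenImmersion.lift j g hg := by
    have : IsSeparated (j ≫ s) := inferInstance
    refine ext_of_ker_eq_bot (j ≫ s) ?_ i hi ?_
    · rw [← Category.assoc, ← Category.assoc, IsOpenImmersion.lift_fac, IsOpenImmersion.lift_fac, h]
    · rw [← cancel_mono j, Category.assoc, Category.assoc, IsOpenImmersion.lift_fac,
        IsOpenImmersion.lift_fac, hU]
  rw [← IsOpenImmersion.lift_fac j f hf, ← IsOpenImmersion.lift_fac j g hg, h1]

lemma range_one {X : Over (Spec (CommRingCat.of C))} (G : Over (Spec (CommRingCat.of C))) [GrpObj G] :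
    Set.range (1 : X ⟶ G).left ⊆ Set.range η[G].left := by
  rintro _ ⟨x, rfl⟩
  rw [Hom.one_def]
  exact ⟨(toUnit X).left x, by rw [Over.comp_left, Scheme.Hom.comp_apply]⟩

/-- A morphism which becomes trivial after composition with a surjective morphism has values in the
image of the unit section. -/
lemma range_of_comp_eq_one {X Y : Over (Spec (CommRingCat.of C))} {G : Over (Spec (CommRingCat.of C))} [GrpObj G]
    (p : Y ⟶ X) (hp : Function.Surjective p.left) (f : X ⟶ G) (h : p ≫ f = 1) :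
    Set.range f.left ⊆ Set.range η[G].left := by
  rintro _ ⟨x, rfl⟩
  obtain ⟨y, rfl⟩ := hp x
  have h1 : f.left (p.left y) = (1 : Y ⟶ G).left y := by
    rw [← h, Over.comp_left, Scheme.Hom.comp_apply]
  rw [h1]
  exact range_one G ⟨y, rfl⟩

lemma specMap_surjective_of_sq {A B : Type u} [CommRing A] [CommRing B] (φ : A →+* B)
    (hφ : Function.Surjective φ) (h : ∀ x, φ x = 0 → x * x = 0) :
    Function.Surjective (Spec.map (CommRingCat.ofHom φ)) := by
  intro p
  have h1 : p ∈ Set.range (PrimeSpectrum.comap φ) := by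
    rw [range_comap_of_surjective _ _ hφ]
    intro x hx
    have h3 : x * x ∈ p.asIdeal := by rw [h x hx]; exact p.asIdeal.zero_mem
    rcases p.2.mem_or_mem h3 with h | h <;> exact h
  obtain ⟨q, hq⟩ := h1
  exact ⟨q, hq⟩

lemma ptMap_surjective_of_sq {E E' : Type u} [CommRing E] [CommRing E'] [Algebra C E] [Algebra C E']
    (φ : E →ₐ[C] E') (hφ : Function.Surjective φ) (h : ∀ x, φ x = 0 → x * x = 0) :
    Function.Surjective (ptMap φ).left := by
  rw [ptMap_left]
  exact specMap_surjective_of_sq φ.toRingHom hφ h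

section

variable (Γ : Type) [CommGroup Γ] (I : Ideal C)

/-- the reduction `A₂ → C[Γ] / I[Γ]` -/
noncomputable def red₂ (hI : I * I = ⊥) : A₂ (Γ := Γ) I →ₐ[C] MonoidAlgebra C Γ ⧸ extIdeal Γ I :=
  (Ideal.Quotient.mkₐ C (extIdeal Γ I)).comp (avg₂ I hI)

lemma avg₂_algebraMap (hI : I * I = ⊥) (c : MonoidAlgebra C Γ) :
    avg₂ I hI (inc₁A I c) = c := avg₂_inc₁A I hI c

lemma red₂_surjective (hI : I * I = ⊥) : Function.Surjective (red₂ Γ I hI) := by
  intro x
  obtain ⟨c, rfl⟩ := Ideal.Quotient.mk_surjective x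
  refine ⟨inc₁A I c, ?_⟩
  change Ideal.Quotient.mk _ (avg₂ I hI (inc₁A I c)) = _
  rw [avg₂_algebraMap]

lemma sq_eq_zero_of_red₂ (hI : I * I = ⊥) (x : A₂ (Γ := Γ) I) (hx : red₂ Γ I hI x = 0) : x * x = 0 := by
  obtain ⟨c, hc⟩ := x.2
  have h1 : avg₂ I hI x ∈ extIdeal Γ I := Ideal.Quotient.eq_zero_iff_mem.mp hx
  have h2 : avg₂ I hI x - c ∈ extIdeal Γ I :=
    avg_sub_mem (C := MonoidAlgebra C Γ) (Γ := Γ) (extIdeal Γ I) (extIdeal_mul C Γ I hI) x c hc
  have h3 : c ∈ extIdeal Γ I := by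
    have := (extIdeal Γ I).sub_mem h1 h2
    rwa [sub_sub_cancel] at this
  have h4 : x.1 ∈ extIdeal Γ (extIdeal Γ I) := by
    have h5 : algebraMap (MonoidAlgebra C Γ) (MonoidAlgebra (MonoidAlgebra C Γ) Γ) c ∈ extIdeal Γ (extIdeal Γ I) :=
      Ideal.mem_map_of_mem _ h3
    have := (extIdeal Γ (extIdeal Γ I)).add_mem hc h5
    rwa [sub_add_cancel] at this
  have h6 : x.1 * x.1 ∈ extIdeal Γ (extIdeal Γ I) * extIdeal Γ (extIdeal Γ I) := Ideal.mul_mem_mul h4 h4
  rw [extIdeal_mul _ Γ _ (extIdeal_mul C Γ I hI)] at h6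
  exact Subtype.ext (by simpa using h6)

/-- `Spec (C[Γ] / I[Γ]) → Spec A₂` -/
noncomputable def pRed₂ (hI : I * I = ⊥) : pt C (MonoidAlgebra C Γ ⧸ extIdeal Γ I) ⟶ pt C (A₂ (Γ := Γ) I) :=
  ptMap (E := A₂ (Γ := Γ) I) (E' := MonoidAlgebra C Γ ⧸ extIdeal Γ I) (red₂ Γ I hI)

lemma pRed₂_eq (hI : I * I = ⊥) :
    pRed₂ Γ I hI = ptMap (Ideal.Quotient.mkₐ C (extIdeal Γ I)) ≫ pAvg₂ Γ I hI := by
  rw [pRed₂, pAvg₂, ptMap_comp]
  rfl

lemma aux_surj {R : Type u} [CommRing R] [Algebra C R] {R' : Type u} [CommRing R'] [Algebra R R'] [Algebra C R']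
    [IsScalarTower C R R'] (A : Subalgebra R R') {E' : Type u} [CommRing E'] [Algebra C E'] (φ : A →ₐ[C] E')
    (h2 : Function.Surjective φ) (h1 : ∀ x : A, φ x = 0 → x * x = 0) : Function.Surjective (ptMap φ).left :=
  ptMap_surjective_of_sq φ h2 h1

lemma pRed₂_surjective (hI : I * I = ⊥) : Function.Surjective (pRed₂ Γ I hI).left := by
  rw [pRed₂]
  exact aux_surj _ (red₂ Γ I hI) (red₂_surjective Γ I hI) (sq_eq_zero_of_red₂ Γ I hI)

end

/-- **Infinitesimal rigidity.** A homomorphism from a diagonalizable group to a group scheme with an affine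
neighbourhood of the unit section which is trivial modulo a square-zero ideal is trivial. -/
theorem eq_one (I : Ideal C) (hI : I * I = ⊥) (M : Type) [AddCommGroup M]
    (G : Over (Spec (CommRingCat.of C))) [GrpObj G] (D : CommRingCat.{u}) (j : Spec D ⟶ G.left)
    [IsOpenImmersion j] (hj : Set.range η[G].left ⊆ Set.range j)
    (a : Red.DS (Spec (CommRingCat.of C)) M ⟶ G) [IsMonHom a]
    (ha : ∀ (E : Type u) [CommRing E] [Algebra C E] (q : pt C E ⟶ Red.DS (Spec (CommRingCat.of C)) M),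
      (∀ i ∈ I, algebraMap C E i = 0) → q ≫ a = 1) : a = 1 := by
  let q := univPt C M
  let c := q ≫ a
  have hJ := extIdeal_mul C (Multiplicative M) I hI
  have hE : ∀ i ∈ I, algebraMap C (MonoidAlgebra C (Multiplicative M) ⧸ extIdeal (Multiplicative M) I) i = 0 := by
    intro i hi
    rw [IsScalarTower.algebraMap_apply C (MonoidAlgebra C (Multiplicative M))]
    exact Ideal.Quotient.eq_zero_iff_mem.mpr (Ideal.mem_map_of_mem _ hi)
  have hc : ptMap (Ideal.Quotient.mkₐ C (extIdeal (Multiplicative M) I)) ≫ c = 1 := by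
    rw [← Category.assoc, ha _ _ hE]
  obtain ⟨cA, hcA, hcA'⟩ := exists_lift G D j hj (extIdeal (Multiplicative M) I) hJ c hc (A₁ I) (fun c e h => ⟨c, h⟩)
  replace hcA : pVal₁ (Multiplicative M) I ≫ cA = c := hcA
  have hA₂ : Function.Injective (valA₂ (Γ := Multiplicative M) I) := Subtype.val_injective
  -- the restriction of `cA` along `A₁ → C → C[Γ]/I[Γ]` is trivial
  have h1 : ptMap (Ideal.Quotient.mkₐ C (extIdeal (Multiplicative M) I)) ≫
      ptMap (Algebra.ofId C (MonoidAlgebra C (Multiplicative M))) ≫ pAvg (Multiplicative M) I hI ≫ cA = 1 := by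
    have h8 : ptMap (Ideal.Quotient.mkₐ C (extIdeal (Multiplicative M) I)) ≫
        ptMap (Algebra.ofId C (MonoidAlgebra C (Multiplicative M))) ≫ pAvg (Multiplicative M) I hI =
      ptMap (E := A₁ (Γ := Multiplicative M) I) (E' := MonoidAlgebra C (Multiplicative M) ⧸ extIdeal (Multiplicative M) I)
        ((Algebra.ofId C _).comp (avg C (Multiplicative M) I hI)) := by
      rw [pAvg, ptMap_comp, ptMap_comp]
      rfl
    rw [← Category.assoc, ← Category.assoc, Category.assoc (ptMap _), h8]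
    apply hcA'
    intro r e he
    have h9 := hE _ (avg_sub_mem I hI e r he)
    rw [map_sub, sub_eq_zero] at h9
    exact h9
  have hrange : ∀ f : pt C (A₂ (Γ := Multiplicative M) I) ⟶ G, pRed₂ (Multiplicative M) I hI ≫ f = 1 →
      Set.range f.left ⊆ Set.range j := fun f hf =>
    (range_of_comp_eq_one _ (pRed₂_surjective _ I hI) f hf).trans hj
  have hr1 : pRed₂ (Multiplicative M) I hI ≫ pDgA (Multiplicative M) I ≫ cA = 1 := by
    rw [pRed₂_eq, Category.assoc, pAvg₂_pDgA_assoc]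
    exact h1
  have hr2 : pRed₂ (Multiplicative M) I hI ≫
      ((pInc₁A (Multiplicative M) I ≫ c) * (pInc₂A (Multiplicative M) I ≫ cA)) = 1 := by
    rw [comp_mul, pRed₂_eq, Category.assoc, Category.assoc, pAvg₂_pInc₂A_assoc, pAvg₂_pInc₁A_assoc, h1, hc,
      _root_.mul_one]
  have key : pDgA (Multiplicative M) I ≫ cA =
      (pInc₁A (Multiplicative M) I ≫ c) * (pInc₂A (Multiplicative M) I ≫ cA) := by
    ext1
    refine ext_of_ker_eq_bot_of_range G.hom j ((Over.w _).trans (Over.w _).symm) (hrange _ hr1) (hrange _ hr2)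
      (pVal₂ (Multiplicative M) I).left (ker_specMap _ hA₂) ?_
    rw [← Over.comp_left, ← Over.comp_left]
    congr 1
    simp only [comp_mul, pVal₂_pDgA_assoc, pVal₂_pInc₂A_assoc, pVal₂_pInc₁A_assoc, hcA, c]
    have h4 := ptMap_dg_univPt (C := C) M
    change ptMap (dg C (Multiplicative M)) ≫ q = (ptMap (inc₁ C _) ≫ q) * (ptMap (inc₂ C _) ≫ q) at h4
    simp only [← Category.assoc]
    rw [h4]
    simp only [MonObj.mul_comp, Category.assoc]
  have h5 := congr(pAvg₂ (Multiplicative M) I hI ≫ $key)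
  simp only [comp_mul, pAvg₂_pDgA_assoc, pAvg₂_pInc₂A_assoc, pAvg₂_pInc₁A_assoc] at h5
  have h6 : c = 1 := right_eq_mul.mp h5
  obtain ⟨h, hh⟩ := exists_eq_comp_charPt (𝟙 (Red.DS (Spec (.of C)) M))
  rw [← Category.id_comp a, hh, Category.assoc]
  change h ≫ c = 1
  rw [h6, MonObj.comp_one]

end Groth.Agent.Sga3.H800.InfTriv
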