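import Groth.Agent.Sga3.H800.InfTriv
import Groth.Agent.Sga3B.InfConjFam
import Groth.Agent.Sga3B.DSRigid
import Groth.Agent.Sga3B.LocalLift

/-!
# Rigidity of homomorphisms from diagonalizable groups over a local base, local form

`A` a local ring, `G` a group scheme locally of finite type over `Spec A`, `V` an affine open
neighbourhood of the unit section.  A homomorphism `d : D(M) ⟶ G` with values in `V` which is trivial over the
closed point is trivial.
-/

set_option autoImplicit false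
universe u
open CategoryTheory MonoidalCategory CartesianMonoidalCategory MonObj GrpObj AlgebraicGeometry Limits

namespace Groth.Agent.Sga3.H800.LocRig

open Groth.Agent.Sga3B.DSPts Groth.Agent.Sga3B.InfConj Groth.Agent.Sga3B.InfConjFam Groth.Agent.Sga3B.DSRigid
  Groth.Agent.Sga3B

section triv

variable {S S' : Scheme.{u}}

/-- The morphism `d` is trivial over `x : S' ⟶ S`. -/
def TrivOver (x : S' ⟶ S) {X G : Over S} [GrpObj G] (d : X ⟶ G) : Prop :=
  ∀ (T : Over S) (_ : T ⟶ Over.mk x) (q : T ⟶ X), q ≫ d = 1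

lemma exists_tr (x : S' ⟶ S) {M : Type} [AddCommGroup M] {T : Over S} (t : T ⟶ Over.mk x) (q : T ⟶ Red.DS S M) :
    ∃ (T' : Over S') (q' : T' ⟶ Red.DS S' M) (e : T ⟶ (Over.map x).obj T'), e ≫ tr x q' = q := by
  let T' : Over S' := Over.mk t.left
  let e : T ⟶ (Over.map x).obj T' := Over.homMk (𝟙 _) (by
    simp only [T', Over.map_obj_hom, Over.mk_hom]
    erw [Category.id_comp]
    exact Over.w t)
  let q' : T' ⟶ Red.DS S' M := dsEquiv T' M (dsChar q : Multiplicative M →* Γ(T.left, ⊤))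
  refine ⟨T', q', e, ?_⟩
  unfold tr
  rw [dsEquiv_naturality, dsChar_dsEquiv]
  refine Eq.trans ?_ (dsEquiv_dsChar q)
  congr 1

/-- `d` over `x : Spec C ⟶ S`. -/
noncomputable def overHom {C : Type u} [CommRing C] (x : Spec (CommRingCat.of C) ⟶ S) {M : Type} [AddCommGroup M]
    {G : Over S} [GrpObj G] (d : Red.DS S M ⟶ G) : Red.DS (Spec (CommRingCat.of C)) M ⟶ Red.bc x G :=
  famHom x G (fst _ _ ≫ d)

lemma comp_overHom {C : Type u} [CommRing C] (x : Spec (CommRingCat.of C) ⟶ S) {M : Type} [AddCommGroup M]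
    {G : Over S} [GrpObj G] (d : Red.DS S M ⟶ G) {T : Over (Spec (CommRingCat.of C))}
    (q : T ⟶ Red.DS (Spec (CommRingCat.of C)) M) :
    q ≫ overHom x d = bcEquiv x T G (tr x q ≫ d) := by
  rw [overHom, comp_famHom, lift_fst_assoc]

instance isMonHom_overHom {C : Type u} [CommRing C] (x : Spec (CommRingCat.of C) ⟶ S) {M : Type} [AddCommGroup M]
    {G : Over S} [GrpObj G] (d : Red.DS S M ⟶ G) [IsMonHom d] : IsMonHom (overHom x d) := by
  refine isMonHom_of_mul _ fun T q q' => ?_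
  rw [comp_overHom, comp_overHom, comp_overHom, tr_mul]
  have h1 : (tr x q * tr x q') ≫ d = (tr x q ≫ d) * (tr x q' ≫ d) := MonObj.mul_comp _ _ _
  rw [h1, map_mul]

lemma overHom_eq_one_iff {C : Type u} [CommRing C] (x : Spec (CommRingCat.of C) ⟶ S) {M : Type} [AddCommGroup M]
    {G : Over S} [GrpObj G] (d : Red.DS S M ⟶ G) : overHom x d = 1 ↔ TrivOver x d := by
  constructor
  · intro h T t q
    obtain ⟨T', q', e, rfl⟩ := exists_tr x t q
    have h1 := comp_overHom x d q'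
    rw [h, MonObj.comp_one] at h1
    have h2 : tr x q' ≫ d = 1 := by
      apply (bcEquiv x T' G).injective
      rw [← h1, map_one]
    rw [Category.assoc, h2, MonObj.comp_one]
  · intro h
    rw [← Category.id_comp (overHom x d), comp_overHom, h _ (st x _), map_one]

end triv

section local_ring

variable {A : Type u} [CommRing A]

/-- `Spec (A/𝔟) → Spec A` -/
noncomputable abbrev qMap (𝔟 : Ideal A) : Spec (CommRingCat.of (A ⧸ 𝔟)) ⟶ Spec (CommRingCat.of A) :=
  Spec.map (CommRingCat.ofHom (Ideal.Quotient.mk 𝔟))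

/-- Triviality modulo `𝔞` implies triviality modulo `𝔞²`. -/
theorem trivOver_sq [IsLocalRing A] (𝔞 : Ideal A) (h𝔞 : 𝔞 ≤ IsLocalRing.maximalIdeal A)
    (G : Over (Spec (CommRingCat.of A))) [GrpObj G] {M : Type} [AddCommGroup M]
    (d : Red.DS (Spec (CommRingCat.of A)) M ⟶ G) [IsMonHom d] (h : TrivOver (qMap 𝔞) d) :
    TrivOver (qMap (𝔞 * 𝔞)) d := by
  have hne : 𝔞 * 𝔞 ≠ ⊤ := fun h0 =>
    (IsLocalRing.maximalIdeal.isMaximal A).ne_top (top_le_iff.mp (h0 ▸ Ideal.mul_le_left.trans h𝔞))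
  have : Nontrivial (A ⧸ 𝔞 * 𝔞) := Ideal.Quotient.nontrivial_iff.mpr hne
  have : IsLocalRing (A ⧸ 𝔞 * 𝔞) := IsLocalRing.of_surjective' (Ideal.Quotient.mk (𝔞 * 𝔞)) Ideal.Quotient.mk_surjective
  obtain ⟨D, j, hj, hj'⟩ := LocalLift.hasAffineUnitNhd_of_isLocalRing (Red.bc (qMap (𝔞 * 𝔞)) G)
  rw [← overHom_eq_one_iff]
  refine InfTriv.eq_one (𝔞.map (Ideal.Quotient.mk (𝔞 * 𝔞))) ?_ M _ D j hj' _ ?_
  · rw [← Ideal.map_mul, Ideal.map_quotient_self]
  · intro E _ _ q hE
    rw [comp_overHom, h _ ?_ _, map_one]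
    have hE' : ∀ a ∈ 𝔞, ((algebraMap (A ⧸ 𝔞 * 𝔞) E).comp (Ideal.Quotient.mk (𝔞 * 𝔞))) a = 0 := fun a ha =>
      hE _ (Ideal.mem_map_of_mem _ ha)
    refine Over.homMk (Spec.map (CommRingCat.ofHom (Ideal.Quotient.lift 𝔞 _ hE'))) ?_
    simp only [Over.mk_hom, Over.map_obj_hom, ← Spec.map_comp, ← CommRingCat.ofHom_comp]
    rfl

/-- The kernel of an augmentation of an algebra of finite type is finitely generated. -/
lemma ker_fg {D : Type u} [CommRing D] [Algebra A D] [Algebra.FiniteType A D] (ε : D →ₐ[A] A) :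
    (RingHom.ker ε).FG := by
  obtain ⟨n, f, hf⟩ := Algebra.FiniteType.iff_quotient_mvPolynomial''.1
    (inferInstance : Algebra.FiniteType A D)
  have hs : Function.Surjective ε := fun r => ⟨algebraMap A D r, by simp⟩
  have h1 := Algebra.FinitePresentation.ker_fG_of_surjective (ε.comp f) (hs.comp hf)
  have h2 : RingHom.ker ε = (RingHom.ker (ε.comp f)).map (f : MvPolynomial (Fin n) A →+* D) := by
    apply le_antisymm
    · intro c hc
      obtain ⟨p, rfl⟩ := hf c
      exact Ideal.mem_map_of_mem (f : MvPolynomial (Fin n) A →+* D) (show p ∈ RingHom.ker (ε.comp f) from hc)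
    · rw [Ideal.map_le_iff_le_comap]
      intro p hp
      exact hp
  rw [h2]
  exact h1.map _

/-- The form of the data in coordinates. -/
lemma exists_coord (G : Over (Spec (CommRingCat.of A))) [GrpObj G] [LocallyOfFiniteType G.hom]
    (D : CommRingCat.{u}) (j : Spec D ⟶ G.left) [IsOpenImmersion j] (hj : Set.range η[G].left ⊆ Set.range j)
    {M : Type} [AddCommGroup M] (d : Red.DS (Spec (CommRingCat.of A)) M ⟶ G)
    (hd : Set.range d.left ⊆ Set.range j) :
    ∃ (_ : Algebra A D) (_ : Algebra.FiniteType A D) (ε : D →ₐ[A] A)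
      (ξ : D →ₐ[A] MonoidAlgebra A (Multiplicative M)),
      η[G].left = Spec.map (CommRingCat.ofHom ε.toRingHom) ≫ j ∧
      (univPt A M ≫ d).left = Spec.map (CommRingCat.ofHom ξ.toRingHom) ≫ j := by
  obtain ⟨ε, hε⟩ := exists_unit_ringHom G D j hj
  have hr : Set.range (univPt A M ≫ d).left ⊆ Set.range j := by
    rintro _ ⟨x, rfl⟩
    apply hd
    rw [Over.comp_left, Scheme.Hom.comp_apply]
    exact ⟨_, rfl⟩
  obtain ⟨ξ, hξ⟩ : ∃ ξ : D ⟶ CommRingCat.of (MonoidAlgebra A (Multiplicative M)),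
      (univPt A M ≫ d).left = Spec.map ξ ≫ j := by
    refine ⟨Spec.preimage (IsOpenImmersion.lift j _ hr), ?_⟩
    rw [Spec.map_preimage]
    exact (IsOpenImmersion.lift_fac _ _ _).symm
  obtain ⟨κ, hκ⟩ : ∃ κ : CommRingCat.of A ⟶ D, j ≫ G.hom = Spec.map κ :=
    ⟨Spec.preimage _, by rw [Spec.map_preimage]⟩
  have e1 : κ ≫ ε = 𝟙 _ := by
    apply Spec.map_injective
    rw [Spec.map_comp, ← hκ, ← Category.assoc, ← hε, Spec.map_id]
    exact Over.w η[G]
  have e2 : κ ≫ ξ = CommRingCat.ofHom (algebraMap A (MonoidAlgebra A (Multiplicative M))) := by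
    apply Spec.map_injective
    rw [Spec.map_comp, ← hκ, ← Category.assoc, ← hξ]
    exact Over.w (univPt A M ≫ d)
  let _ : Algebra A D := κ.hom.toAlgebra
  have h3 : LocallyOfFiniteType (Spec.map κ) := by
    rw [← hκ]; infer_instance
  have h4 : Algebra.FiniteType A D := by
    rw [HasRingHomProperty.Spec_iff (P := @LocallyOfFiniteType)] at h3
    exact h3
  refine ⟨inferInstance, h4, { ε.hom with commutes' := fun r => congr($(e1).hom r) },
    { ξ.hom with commutes' := fun r => congr($(e2).hom r) }, hε, hξ⟩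

variable {G : Over (Spec (CommRingCat.of A))} [GrpObj G] {D : CommRingCat.{u}} {j : Spec D ⟶ G.left}
  [IsOpenImmersion j] {M : Type} [AddCommGroup M] {d : Red.DS (Spec (CommRingCat.of A)) M ⟶ G}
  [Algebra A D] (ε : D →ₐ[A] A) (ξ : D →ₐ[A] MonoidAlgebra A (Multiplicative M))
  (hε : η[G].left = Spec.map (CommRingCat.ofHom ε.toRingHom) ≫ j)
  (hξ : (univPt A M ≫ d).left = Spec.map (CommRingCat.ofHom ξ.toRingHom) ≫ j)

include hε hξ in
/-- Triviality modulo `𝔟` in coordinates. -/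
lemma coeff_mem_of_trivOver (𝔟 : Ideal A) (h : TrivOver (qMap 𝔟) d) (g : D) (hg : ε g = 0) (m : Multiplicative M) :
    (ξ g).coeff m ∈ 𝔟 := by
  let φ : MonoidAlgebra A (Multiplicative M) →ₐ[A] MonoidAlgebra (A ⧸ 𝔟) (Multiplicative M) :=
    MonoidAlgebra.mapAlgHom (Multiplicative M) (Algebra.ofId A (A ⧸ 𝔟))
  let t : pt A (MonoidAlgebra (A ⧸ 𝔟) (Multiplicative M)) ⟶ Over.mk (qMap 𝔟) :=
    Over.homMk (Spec.map (CommRingCat.ofHom (algebraMap (A ⧸ 𝔟) _))) (by
      simp only [Over.mk_hom, ← Spec.map_comp, ← CommRingCat.ofHom_comp])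
  have h1 := h _ t (ptMap φ ≫ univPt A M)
  have h2 := congr($(h1).left)
  rw [Category.assoc, Over.comp_left, hξ, Hom.one_def, Over.comp_left] at h2
  change Spec.map (CommRingCat.ofHom φ.toRingHom) ≫ _ = _ ≫ η[G].left at h2
  rw [hε] at h2
  rw [← Category.assoc, ← Category.assoc, cancel_mono] at h2
  change _ = Spec.map (CommRingCat.ofHom (algebraMap A (MonoidAlgebra (A ⧸ 𝔟) (Multiplicative M)))) ≫ _ at h2
  rw [← Spec.map_comp, ← Spec.map_comp] at h2
  have h3 := congr($(Spec.map_injective h2).hom g)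
  have h4 : φ (ξ g) = algebraMap A _ (ε g) := h3
  rw [hg, map_zero] at h4
  have h5 := congrArg (fun x => x.coeff m) h4
  simp only [φ, MonoidAlgebra.coeff_mapAlgHom] at h5
  exact Ideal.Quotient.eq_zero_iff_mem.mp h5

omit [IsOpenImmersion j] in
include hε hξ in
lemma trivOver_of_coeff_mem (𝔟 : Ideal A) (h : ∀ g, ε g = 0 → ∀ m, (ξ g).coeff m ∈ 𝔟)
    {T : Over (Spec (CommRingCat.of A))} (hT : ∀ a ∈ 𝔟, ((Scheme.ΓSpecIso (.of A)).inv ≫ T.hom.appTop).hom a = 0)
    (q : T ⟶ Red.DS (Spec (CommRingCat.of A)) M) : q ≫ d = 1 := by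
  obtain ⟨r, rfl⟩ := exists_eq_comp_charPt q
  ext1
  rw [Category.assoc, Over.comp_left, hξ, Hom.one_def, Over.comp_left, hε]
  rw [← Category.assoc, ← Category.assoc]
  congr 1
  have e1 : (toUnit T).left = T.hom := by
    rw [Over.toUnit_left]
  rw [e1]
  -- compare the ring maps
  let ρ : CommRingCat.of (MonoidAlgebra A (Multiplicative M)) ⟶ Γ(T.left, ⊤) := (Scheme.ΓSpecIso _).inv ≫ r.left.appTop
  let α : CommRingCat.of A ⟶ Γ(T.left, ⊤) := (Scheme.ΓSpecIso (.of A)).inv ≫ T.hom.appTop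
  have hρ : r.left = T.left.toSpecΓ ≫ Spec.map ρ := by
    rw [Spec.map_comp, ← Scheme.toSpecΓ_naturality_assoc]
    simp
  have hα : T.hom = T.left.toSpecΓ ≫ Spec.map α := by
    rw [Spec.map_comp, ← Scheme.toSpecΓ_naturality_assoc]
    simp
  have hρα : CommRingCat.ofHom (algebraMap A (MonoidAlgebra A (Multiplicative M))) ≫ ρ = α := by
    have h1 : r.left ≫ Spec.map (CommRingCat.ofHom (algebraMap A (MonoidAlgebra A (Multiplicative M)))) = T.hom :=
      Over.w r
    simp only [ρ, α]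
    rw [← h1, Scheme.Hom.comp_appTop, Scheme.ΓSpecIso_inv_naturality_assoc]
  rw [hρ, hα, Category.assoc, Category.assoc, ← Spec.map_comp, ← Spec.map_comp]
  congr 2
  ext g
  have h2 : ρ.hom (ξ (g - algebraMap A D (ε g))) = 0 := by
    have h3 : ξ (g - algebraMap A D (ε g)) ∈ 𝔟.map (algebraMap A (MonoidAlgebra A (Multiplicative M))) := by
      have h4 := h (g - algebraMap A D (ε g)) (by simp)
      rw [← MonoidAlgebra.sum_coeff_single (ξ (g - algebraMap A D (ε g)))]
      refine Ideal.sum_mem _ fun m _ => ?_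
      have h5 : ∀ a : A, (MonoidAlgebra.single m a : MonoidAlgebra A (Multiplicative M)) =
          algebraMap A _ a * MonoidAlgebra.single m 1 := fun a => by simp
      rw [h5]
      exact Ideal.mul_mem_right _ _ (Ideal.mem_map_of_mem _ (h4 m))
    have h6 : 𝔟.map (algebraMap A (MonoidAlgebra A (Multiplicative M))) ≤ RingHom.ker ρ.hom := by
      rw [Ideal.map_le_iff_le_comap]
      intro a ha
      change ρ.hom (algebraMap A _ a) = 0
      have h7 := congr($(hρα).hom a)
      refine Eq.trans ?_ (hT a ha)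
      exact h7
    exact h6 h3
  rw [map_sub, map_sub, sub_eq_zero] at h2
  change ρ.hom (ξ g) = α.hom (ε g)
  rw [h2, ← hρα]
  change _ = ρ.hom (algebraMap A _ (ε g))
  rw [AlgHom.commutes]

/-- **Rigidity over a local base, local form.** A homomorphism from a diagonalizable group with values in an
affine neighbourhood of the unit section, trivial over the closed point, is trivial. -/
theorem eq_one_of_range [IsLocalRing A] (G : Over (Spec (CommRingCat.of A))) [GrpObj G] [LocallyOfFiniteType G.hom]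
    (D : CommRingCat.{u}) (j : Spec D ⟶ G.left) [IsOpenImmersion j] (hj : Set.range η[G].left ⊆ Set.range j)
    {M : Type} [AddCommGroup M] (d : Red.DS (Spec (CommRingCat.of A)) M ⟶ G) [IsMonHom d]
    (hd : Set.range d.left ⊆ Set.range j) (h0 : TrivOver (qMap (IsLocalRing.maximalIdeal A)) d) : d = 1 := by
  classical
  obtain ⟨_, _, ε, ξ, hε, hξ⟩ := exists_coord G D j hj d hd
  obtain ⟨T, hT⟩ := ker_fg ε
  let U : Set A := ⋃ g ∈ T, Set.range fun m => (ξ g).coeff m
  have hU : U.Finite := Set.Finite.biUnion T.finite_toSet fun g _ => Finsupp.finite_range _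
  let 𝔞 : Ideal A := Ideal.span U
  have hT0 : ∀ g ∈ T, ε g = 0 := by
    intro g hg
    have : g ∈ RingHom.ker ε := hT ▸ Ideal.subset_span hg
    exact this
  have h𝔞fg : 𝔞.FG := ⟨hU.toFinset, by simp [𝔞]⟩
  have hle : ∀ 𝔟 : Ideal A, TrivOver (qMap 𝔟) d → 𝔞 ≤ 𝔟 := by
    intro 𝔟 h𝔟
    rw [Ideal.span_le]
    rintro r hr
    simp only [U, Set.mem_iUnion, Set.mem_range] at hr
    obtain ⟨g, hg, m, rfl⟩ := hr
    exact coeff_mem_of_trivOver ε ξ hε hξ 𝔟 h𝔟 g (hT0 g hg) m
  have h𝔞le : 𝔞 ≤ IsLocalRing.maximalIdeal A := hle _ h0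
  have h1 : ∀ g, ε g = 0 → ∀ m, (ξ g).coeff m ∈ 𝔞 := by
    let K : Ideal (MonoidAlgebra A (Multiplicative M)) :=
      RingHom.ker (MonoidAlgebra.mapRingHom (Multiplicative M) (Ideal.Quotient.mk 𝔞))
    have hK : ∀ x : MonoidAlgebra A (Multiplicative M), x ∈ K ↔ ∀ m, x.coeff m ∈ 𝔞 := by
      intro x
      simp only [K, RingHom.mem_ker]
      constructor
      · intro hx m
        have := congr(($hx).coeff m)
        simpa [Ideal.Quotient.eq_zero_iff_mem] using this
      · intro hx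
        ext m
        simpa [Ideal.Quotient.eq_zero_iff_mem] using hx m
    have hle : RingHom.ker ε ≤ K.comap (ξ : D →+* MonoidAlgebra A (Multiplicative M)) := by
      rw [← hT, Ideal.span_le]
      intro g hg
      show ξ g ∈ K
      rw [hK]
      intro m
      exact Ideal.subset_span (Set.mem_biUnion hg ⟨m, rfl⟩)
    intro c hc
    have : c ∈ RingHom.ker ε := hc
    exact (hK _).mp (hle this)
  have h2 : TrivOver (qMap 𝔞) d := by
    intro T t q
    refine trivOver_of_coeff_mem ε ξ hε hξ 𝔞 h1 ?_ q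
    intro a ha
    have h3 : T.hom = t.left ≫ qMap 𝔞 := (Over.w t).symm
    rw [h3, Scheme.Hom.comp_appTop, ← Scheme.ΓSpecIso_inv_naturality_assoc]
    change _ = (0 : Γ(T.left, ⊤))
    have h4 : (CommRingCat.ofHom (Ideal.Quotient.mk 𝔞)).hom a = 0 := Ideal.Quotient.eq_zero_iff_mem.mpr ha
    rw [CommRingCat.comp_apply, CommRingCat.comp_apply]
    erw [h4]
    rw [map_zero, map_zero]
  have h3 : 𝔞 ≤ 𝔞 • 𝔞 := by
    rw [smul_eq_mul]
    exact hle _ (trivOver_sq 𝔞 h𝔞le G d h2)
  have h4 : 𝔞 = ⊥ := by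
    refine Submodule.eq_bot_of_le_smul_of_le_jacobson_bot 𝔞 𝔞 h𝔞fg h3 ?_
    rw [IsLocalRing.jacobson_eq_maximalIdeal ⊥ bot_ne_top]
    exact h𝔞le
  rw [← Category.id_comp d]
  refine trivOver_of_coeff_mem ε ξ hε hξ 𝔞 h1 ?_ _
  intro a ha
  rw [h4] at ha
  rw [Ideal.mem_bot.mp ha, map_zero]

end local_ring

end Groth.Agent.Sga3.H800.LocRig
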